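import Cfsg.Agent.Lib.Dickson.Transvections
import Cfsg.Agent.SL3Geo60.SL2Four
import Cfsg.Agent.MaxSub.SubfieldMax.SL2

/-!
Two opposite root elements (three of them in characteristic two) generate `SL₂` (helper66).
-/

set_option autoImplicit false

namespace Cfsg.Agent.SU3Geo98.SingerT

open Matrix OnePoint
open scoped MatrixGroups Classical
open Cfsg.Agent.PLocalB (upper lower)
open Cfsg.Agent.Dickson (PSL2)

attribute [local instance] Cfsg.Agent.PLocalB.lineAction Cfsg.Agent.Dickson.pslLine

variable {T : Type*} [Field T] [Fintype T]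

/-- Elements of order dividing `2`, `3` or `5` have trace in `GF(4)`. -/
theorem str_pow_four [CharP T 2] {A : SL(2, T)} (h : A ^ 2 = 1 ∨ A ^ 3 = 1 ∨ A ^ 5 = 1) :
    Dickson.str A ^ 4 = Dickson.str A := by
  set t := Dickson.str A with ht
  set X : Matrix (Fin 2) (Fin 2) T := (A : Matrix (Fin 2) (Fin 2) T) with hX
  have h2 : (2 : T) = 0 := CharTwo.two_eq_zero
  have hm : X * X = t • X - 1 := Dickson.sl_sq A
  have htr : X.trace = t := rfl
  by_cases h10 : X 0 1 = 0 ∧ X 1 0 = 0 ∧ X 0 0 = X 1 1
  · have : t = 0 := by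
      rw [← htr, trace_fin_two, h10.2.2]
      linear_combination X 1 1 * h2
    rw [this]; simp
  -- `a X + b` is scalar only if `a = 0`
  have key : ∀ a b : T, a • X + b • (1 : Matrix (Fin 2) (Fin 2) T) = 1 → a = 0 := by
    intro a b e
    by_contra ha
    refine h10 ⟨?_, ?_, ?_⟩
    · have := congrFun (congrFun e 0) 1
      simpa [ha] using this
    · have := congrFun (congrFun e 1) 0
      simpa [ha] using this
    · have e0 := congrFun (congrFun e 0) 0
      have e1 := congrFun (congrFun e 1) 1
      simp at e0 e1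
      exact mul_left_cancel₀ ha (by linear_combination e0 - e1)
  rcases h with h | h | h
  · have e : X * X = 1 := by
      rw [hX, ← Matrix.SpecialLinearGroup.coe_mul, ← sq, h, Matrix.SpecialLinearGroup.coe_one]
    rw [hm, sub_eq_add_neg, CharTwo.neg_eq] at e
    have := key t 1 (by rwa [one_smul])
    rw [this]; simp
  · have e : X * (X * X) = 1 := by
      rw [hX, ← Matrix.SpecialLinearGroup.coe_mul, ← Matrix.SpecialLinearGroup.coe_mul, ← pow_two A,
        ← pow_succ' A 2, h, Matrix.SpecialLinearGroup.coe_one]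
    rw [hm, mul_sub, mul_one, Matrix.mul_smul, hm] at e
    have := key (t * t - 1) (-t) (Eq.trans (by module) e)
    have ht1 : t = 1 := by
      have : (t - 1) ^ 2 = 0 := by linear_combination this - (t - 1) * h2
      exact sub_eq_zero.mp (sq_eq_zero_iff.mp this)
    rw [ht1]; simp
  · have e : X * ((X * X) * (X * X)) = 1 := by
      rw [hX, ← Matrix.SpecialLinearGroup.coe_mul, ← Matrix.SpecialLinearGroup.coe_mul,
        ← Matrix.SpecialLinearGroup.coe_mul, ← pow_two A, ← pow_add A, ← pow_succ' A (2 + 2), h,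
        Matrix.SpecialLinearGroup.coe_one]
    simp only [hm, sub_mul, mul_sub, one_mul, mul_one, Matrix.smul_mul, Matrix.mul_smul, smul_sub,
      smul_smul] at e
    have h4 := key (t ^ 4 - 3 * t ^ 2 + 1) (-(t ^ 3) + 2 * t) (Eq.trans (by module) e)
    have : (t ^ 2 + t + 1) ^ 2 = 0 := by
      linear_combination h4 + (t ^ 3 + 3 * t ^ 2 + t) * h2
    linear_combination t * (t - 1) * sq_eq_zero_iff.mp this

theorem order_A5_pow (x : alternatingGroup (Fin 5)) : x ^ 2 = 1 ∨ x ^ 3 = 1 ∨ x ^ 5 = 1 := by
  revert x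
  decide +kernel

/-- A lower root element and a four-group of upper ones generate `SL₂` of the field they define. -/
theorem sl2_top_even [CharP T 2] (H : Subgroup SL(2, T)) {lam nu : T} (hl : lam ≠ 0) (hn : nu ≠ 0)
    (hne : nu ≠ lam) (hgen : Subfield.closure ({lam, nu} : Set T) = ⊤) (hL : lower (1 : T) ∈ H)
    (hU : upper lam ∈ H) (hV : upper nu ∈ H) : ∀ A : SL(2, T), A ∈ H := by
  haveI : Fact (Nat.Prime 2) := ⟨Nat.prime_two⟩
  have hneg : ∀ A : SL(2, T), -A = A := fun A => Subtype.ext (by
    rw [Matrix.SpecialLinearGroup.coe_neg]; ext i j; simp [CharTwo.neg_eq])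
  let π : SL(2, T) →* PSL2 T := QuotientGroup.mk' _
  have hπ : Function.Injective π := by
    intro A B h
    rcases Dickson.mk_eq_mk_iff.1 h with e | e
    · exact e
    · exact e.trans (hneg B)
  suffices hK : H.map π = ⊤ by
    intro A
    obtain ⟨B, hB, hBA⟩ := Subgroup.mem_map.1 (hK ▸ Subgroup.mem_top (π A))
    exact hπ hBA ▸ hB
  set K := H.map π with hKdef
  have hmem : ∀ A ∈ H, π A ∈ K := fun A hA => Subgroup.mem_map_of_mem π hA
  have huu : ∀ s, upper s * upper s = (1 : SL(2, T)) := fun s => by
    rw [PLocalB.upper_mul, CharTwo.add_self_eq_zero]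
    exact Subtype.ext (by ext i j; fin_cases i <;> fin_cases j <;> simp [upper])
  let a : K := ⟨π (upper lam), hmem _ hU⟩
  let b : K := ⟨π (upper nu), hmem _ hV⟩
  let l : K := ⟨π (lower 1), hmem _ hL⟩
  have hll : lower (1 : T) * lower 1 = 1 := Subtype.ext (by
    rw [Matrix.SpecialLinearGroup.coe_mul, Matrix.SpecialLinearGroup.coe_one]
    ext i j; fin_cases i <;> fin_cases j <;>
      simp [lower, Matrix.mul_apply, Fin.sum_univ_two, CharTwo.add_self_eq_zero])
  have hnc : a * l ≠ l * a := by
    intro h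
    have h' : π (upper lam * lower 1) = π (lower 1 * upper lam) := by
      rw [map_mul, map_mul]; exact congrArg Subtype.val h
    have := congrArg (fun M : SL(2, T) => M 0 0) (hπ h')
    simp only [Matrix.SpecialLinearGroup.coe_mul, Matrix.mul_apply, Fin.sum_univ_two] at this
    simp [upper, lower, hl] at this
  have hab : a * b = b * a := Subtype.ext (by
    show π (upper lam) * π (upper nu) = π (upper nu) * π (upper lam)
    rw [← map_mul, ← map_mul, PLocalB.upper_mul, PLocalB.upper_mul, add_comm])
  have ha2 : a * a = 1 := Subtype.ext (by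
    show π (upper lam) * π (upper lam) = 1
    rw [← map_mul, huu, map_one])
  have hb2 : b * b = 1 := Subtype.ext (by
    show π (upper nu) * π (upper nu) = 1
    rw [← map_mul, huu, map_one])
  have hl2 : l * l = 1 := Subtype.ext (by
    show π (lower 1) * π (lower 1) = 1
    rw [← map_mul, hll, map_one])
  have hne1 : ∀ s : T, s ≠ 0 → π (upper s) ≠ 1 := fun s hs h => by
    have := congrArg (fun M : SL(2, T) => M 0 1) (hπ (h.trans (map_one π).symm))
    simp [upper] at this
    exact hs this
  have hq2 : 2 ∣ Fintype.card T := by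
    obtain ⟨n, hp, hn'⟩ := FiniteField.card T 2
    exact hn' ▸ dvd_pow_self 2 n.pos.ne'
  rcases Dickson.kind' 2 K with ⟨k, -, hcyc, -⟩ | ⟨t, ht⟩ | ⟨n, -, hn', ⟨e⟩⟩ | ⟨⟨e⟩⟩ | ⟨⟨e⟩⟩ |
      ⟨⟨e⟩⟩ | ⟨T', -, -, hiso, -, D, hD⟩
  · exact (hnc (by
      obtain ⟨g, hg⟩ := hcyc
      obtain ⟨i, hi⟩ := Subgroup.mem_zpowers_iff.1 (hg a)
      obtain ⟨j, hj⟩ := Subgroup.mem_zpowers_iff.1 (hg l)
      rw [← hi, ← hj, ← _root_.zpow_add, ← _root_.zpow_add, add_comm])).elim
  · exfalso
    have hu := ht _ (hmem _ hU)
    have hlw := ht _ (hmem _ hL)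
    rw [mul_smul, mul_smul, smul_eq_iff_eq_inv_smul] at hu hlw
    generalize t⁻¹ • (∞ : OnePoint T) = w at hu hlw
    have hu' : upper lam • w = w := hu
    have hl' : lower (1 : T) • w = w := hlw
    cases w with
    | infty =>
      rw [PLocalB.smul_infty_iff] at hl'
      simp [lower] at hl'
    | coe z =>
      rw [PLocalB.smul_coe_eq, if_neg (by simp)] at hu'
      simp at hu'
      exact hl hu'
  · exfalso
    have hq1 := Fintype.one_lt_card (α := T)
    have hg : Nat.gcd 2 (Fintype.card T - 1) = 1 :=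
      Nat.coprime_iff_gcd_eq_one.mp (Nat.prime_two.coprime_iff_not_dvd.mpr (by omega))
    rw [hg, Nat.div_one, Nat.div_one] at hn'
    have hodd : Odd n := by
      rw [Nat.odd_iff]
      rcases Nat.mod_two_eq_zero_or_one n with h | h
      · rcases hn' with h' | h' <;>
          have := (Nat.dvd_of_mod_eq_zero h).trans h' <;> omega
      · exact h
    have h2u : IsUnit (2 : ZMod n) := by
      have := (ZMod.unitOfCoprime 2 (Nat.coprime_two_left.mpr hodd)).isUnit
      simpa using this
    have key : ∀ x y : DihedralGroup n, x * x = 1 → y * y = 1 → x ≠ 1 → y ≠ 1 → x * y = y * x →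
        x = y := by
      rintro (i | i) (j | j) hx hy hx1 hy1 hxy
      all_goals simp only [DihedralGroup.r_mul_r, DihedralGroup.sr_mul_sr, DihedralGroup.r_mul_sr,
        DihedralGroup.sr_mul_r, DihedralGroup.one_def, DihedralGroup.r.injEq, ne_eq,
        DihedralGroup.sr.injEq] at *
      · exact absurd (h2u.mul_right_eq_zero.mp (by rw [two_mul]; exact hx)) hx1
      · exact absurd (h2u.mul_right_eq_zero.mp (by rw [two_mul]; exact hx)) hx1
      · exact absurd (h2u.mul_right_eq_zero.mp (by rw [two_mul]; exact hy)) hy1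
      · exact sub_eq_zero.mp (h2u.mul_right_eq_zero.mp (by linear_combination -hxy))
    refine hne ?_
    have h := e.injective (key (e a) (e b) (by rw [← map_mul, ha2, map_one])
      (by rw [← map_mul, hb2, map_one])
      (fun h => hne1 _ hl (congrArg Subtype.val (e.injective (h.trans (map_one e).symm))))
      (fun h => hne1 _ hn (congrArg Subtype.val (e.injective (h.trans (map_one e).symm))))
      (by rw [← map_mul, ← map_mul, hab]))
    have := congrArg (fun M : SL(2, T) => M 0 1) (hπ (congrArg Subtype.val h))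
    simpa [upper] using this.symm
  · exfalso
    have key : ∀ x y : ↥(alternatingGroup (Fin 4)), x * x = 1 → y * y = 1 → x * y = y * x := by
      decide
    refine hnc (e.injective ?_)
    rw [map_mul, map_mul]
    exact key _ _ (by rw [← map_mul, ha2, map_one]) (by rw [← map_mul, hl2, map_one])
  · exfalso
    obtain ⟨x, hx4, hx2⟩ : ∃ x : Equiv.Perm (Fin 4), x ^ 4 = 1 ∧ x ^ 2 ≠ 1 :=
      ⟨finRotate 4, Equiv.ext (by decide), fun h => absurd (Equiv.congr_fun h 0) (by decide)⟩
    obtain ⟨y, rfl⟩ := e.surjective x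
    obtain ⟨A, -, hA⟩ := y.2
    refine hx2 ?_
    rw [← map_pow] at hx4 ⊢
    have h4' : y ^ 4 = 1 := e.injective (hx4.trans (map_one e).symm)
    have : A ^ 4 = 1 := hπ (by rw [map_pow, map_one, hA]; exact congrArg Subtype.val h4')
    have hA2 := SL3Geo60.sq_eq_one_of_pow_four this
    have : y ^ 2 = 1 := Subtype.ext (by
      show (y : PSL2 T) ^ 2 = 1
      rw [← hA, ← map_pow, hA2, map_one])
    rw [this, map_one]
  · -- every trace lies in `GF(4)`
    have h4 : ∀ A ∈ H, Dickson.str A ^ 4 = Dickson.str A := by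
      intro A hA
      refine str_pow_four ?_
      have h := order_A5_pow (e ⟨π A, hmem A hA⟩)
      simp only [← map_pow, map_eq_one_iff e e.injective, Subtype.ext_iff, Subgroup.coe_pow,
        Subgroup.coe_one] at h
      simpa only [← map_pow, map_eq_one_iff π hπ] using h
    have hfix : ∀ s, upper s ∈ H → s ^ 4 = s := by
      intro s hs
      have h := h4 _ (mul_mem hs hL)
      have e' : Dickson.str (upper s * lower 1) = s := by
        rw [Dickson.str, Matrix.SpecialLinearGroup.coe_mul, trace_fin_two]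
        simp [upper, lower, Matrix.mul_apply, Fin.sum_univ_two]
        linear_combination (CharTwo.two_eq_zero : (2 : T) = 0)
      rwa [e'] at h
    have hall : ∀ s : T, s ^ 4 = s := by
      let S : Subfield T :=
        { carrier := {s | s ^ 4 = s}
          mul_mem' := fun {x y} hx hy => by
            simp only [Set.mem_ofPred_eq] at *; rw [mul_pow, hx, hy]
          one_mem' := by simp
          add_mem' := fun {x y} hx hy => by
            simp only [Set.mem_ofPred_eq] at *
            rw [show (4 : ℕ) = 2 * 2 from rfl, pow_mul, CharTwo.add_sq, CharTwo.add_sq, ← pow_mul,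
              ← pow_mul, hx, hy]
          zero_mem' := by simp
          neg_mem' := fun {x} hx => by simpa [CharTwo.neg_eq] using hx
          inv_mem' := fun x hx => by
            simp only [Set.mem_ofPred_eq] at *; rw [inv_pow, hx] }
      have hS : S = ⊤ := top_le_iff.mp (hgen ▸ Subfield.closure_le.mpr (by
        rintro x (rfl | rfl)
        · exact hfix _ hU
        · exact hfix _ hV))
      exact fun s => (hS ▸ Subfield.mem_top s : s ∈ S)
    have hT4 : Fintype.card T ≤ 4 := by
      have h := Polynomial.card_le_degree_of_subset_roots (p := (Polynomial.X ^ 4 - Polynomial.X : Polynomial T))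
        (Z := (Finset.univ : Finset T)) (fun s _ => by
          rw [Polynomial.mem_roots (FiniteField.X_pow_card_sub_X_ne_zero T (by norm_num : 1 < 4))]
          simp [hall s])
      rwa [Finset.card_univ, FiniteField.X_pow_card_sub_X_natDegree_eq T (by norm_num : 1 < 4)] at h
    refine Subgroup.eq_top_of_le_card K ?_
    have h60 : Nat.card K = 60 := (Nat.card_congr e.toEquiv).trans
      (by rw [nat_card_alternatingGroup (α := Fin 5), Nat.card_fin]; norm_num [Nat.factorial])
    have h2 : Nat.card (PSL2 T) ≤ Nat.card SL(2, T) :=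
      Nat.card_le_card_of_surjective π (QuotientGroup.mk'_surjective _)
    rw [LinearGroup.card_SL_two, Nat.card_eq_fintype_card (α := T)] at h2
    have h3 : Fintype.card T * (Fintype.card T ^ 2 - 1) ≤ 60 := by
      calc _ ≤ 4 * (4 ^ 2 - 1) := Nat.mul_le_mul hT4 (Nat.sub_le_sub_right (Nat.pow_le_pow_left hT4 2) 1)
        _ = 60 := by norm_num
    omega
  · have hlin : ∀ s, upper s ∈ H → s ∈ T' := by
      intro s hs
      have h := MaxSub.SubfieldMax.trace_sq_mem T' D (hD _ (hmem _ (mul_mem hs hL)))
      have hsq : s ^ 2 ∈ T' := by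
        convert h using 1
        rw [Matrix.SpecialLinearGroup.coe_mul]
        simp [upper, lower, Matrix.mul_apply, Fin.sum_univ_two]
        linear_combination -(2 + 2 * s) * (CharTwo.two_eq_zero : (2 : T) = 0)
      obtain ⟨z, hz⟩ := (FiniteField.isSquare_of_char_two
        (ringChar.eq T' 2) ⟨_, hsq⟩ : IsSquare (⟨_, hsq⟩ : T'))
      have hz' : s ^ 2 = (z : T) ^ 2 := by
        have := congrArg Subtype.val hz
        simpa [sq] using this
      rw [(CharTwo.sq_injective hz' : s = z)]
      exact z.2
    have hT : T' = ⊤ := top_le_iff.mp (hgen ▸ Subfield.closure_le.mpr (by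
      rintro x (rfl | rfl)
      · exact hlin _ hU
      · exact hlin _ hV))
    subst hT
    refine Subgroup.eq_top_of_le_card K ?_
    let f : T →+* (⊤ : Subfield T) := (RingHom.id T).codRestrict _ fun _ => trivial
    refine le_trans (Nat.card_le_card_of_injective _ (Dickson.extend_injective f)) ?_
    rcases hiso with ⟨⟨e⟩⟩ | ⟨⟨e⟩⟩
    · exact (Nat.card_congr e.toEquiv).ge
    · have := Finite.of_equiv K e.toEquiv
      exact (Nat.card_le_card_of_injective _
        Matrix.ProjectiveSpecialLinearGroup.toPGL_injective).trans (Nat.card_congr e.toEquiv).ge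

/-- A lower and an upper root element in odd characteristic. -/
theorem sl2_top_odd (h2 : (2 : T) ≠ 0) (H : Subgroup SL(2, T)) {lam : T} (hl : lam ≠ 0)
    (hgen : Subfield.closure ({lam} : Set T) = ⊤) (hL : lower (1 : T) ∈ H) (hU : upper lam ∈ H) :
    (∀ A : SL(2, T), A ∈ H ∨ -A ∈ H) ∨ (Fintype.card T = 9 ∧ lam ^ 2 = -1) := by
  let π : SL(2, T) →* PSL2 T := QuotientGroup.mk' _
  rcases Dickson.transvection_image (lower 1) (upper lam) lam h2 hl hgen rfl rfl (H.map π)
    (Subgroup.mem_map_of_mem π hL) (Subgroup.mem_map_of_mem π hU) with h | ⟨h1, h2', -⟩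
  · left
    intro A
    obtain ⟨B, hB, hBA⟩ := Subgroup.mem_map.1 (h ▸ Subgroup.mem_top (π A))
    rcases Dickson.mk_eq_mk_iff.1 hBA with e | e
    · exact Or.inl (e ▸ hB)
    · exact Or.inr (e ▸ hB)
  · exact Or.inr ⟨h1, h2'⟩

end Cfsg.Agent.SU3Geo98.SingerT
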