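import Cfsg.Agent.SU3Geo98.SingerT.Plane

/-!
The exception `SL₂(5) < SL₂(9)` does not occur in dimension three (helper66).
-/

set_option autoImplicit false
set_option linter.unusedSectionVars false

namespace Cfsg.Agent.SU3Geo98.SingerT

open Matrix Cfsg.Agent.MaxSub Cfsg.Agent.HermStab
open scoped MatrixGroups

variable {ι : Type} [Fintype ι] [DecidableEq ι] {F : Type*} [Field F] [Fintype F]
variable {σ : F ≃+* F} {f : (ι → F) → (ι → F) → F}

local notation:73 g:74 " ◆ " x:73 => (Units.val g) *ᵥ x

variable (hf : Geo.IsUnitaryForm σ f) (hn : Fintype.card ι = 3)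
include hf hn

/-- Orthogonal isotropic vectors are proportional. -/
theorem mem_span_of_perp {x y : ι → F} (hx : f x x = 0) (hy : f y y = 0) (hxy : f y x = 0)
    (hy0 : y ≠ 0) : x ∈ Submodule.span F ({y} : Set (ι → F)) := by
  by_contra hmem
  have hxy' : f x y = 0 := hswap_zero hf hxy
  set K := Submodule.span F ({x, y} : Set (ι → F))
  have hK : ∀ p ∈ K, ∀ p' ∈ K, f p p' = 0 := by
    intro p hp p' hp'
    obtain ⟨a, b, rfl⟩ := Submodule.mem_span_pair.mp hp
    obtain ⟨c, d, rfl⟩ := Submodule.mem_span_pair.mp hp'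
    simp [hf.add_left, hf.smul_left, hadd_right hf, hsmul_right hf, hx, hy, hxy, hxy']
  have h1 := finrank_le_half hf hK
  have hli : LinearIndependent F ![x, y] := by
    rw [LinearIndependent.pair_iff]
    intro s t h
    by_cases hs : s = 0
    · subst hs
      rw [zero_smul, zero_add, smul_eq_zero] at h
      exact ⟨rfl, h.resolve_right hy0⟩
    · refine absurd (Submodule.mem_span_singleton.mpr ⟨-(t / s), ?_⟩) hmem
      have hx' : x = -(s⁻¹ • (t • y)) := by
        rw [← smul_neg, ← eq_neg_of_add_eq_zero_left h, smul_smul, inv_mul_cancel₀ hs, one_smul]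
      rw [hx', smul_smul, neg_smul, div_eq_inv_mul]
  have h2 := finrank_span_eq_card hli
  have hr : Set.range ![x, y] = ({x, y} : Set (ι → F)) := by simp [Matrix.range_cons, Set.pair_comm]
  rw [hr, Fintype.card_fin] at h2
  change Module.finrank F K = 2 at h2
  omega

variable {M : Subgroup (GL ι F)} (hMG : M ≤ su f) {v : ι → F} (hv : f v v = 0) (hv0 : v ≠ 0)
variable {c : F} (hc0 : c ≠ 0) (hc : c + σ c = 0) (hM' : ut f v c ∈ M)
variable (horb : ∀ u : ι → F, ∃ h ∈ M, h ◆ v ∉ Submodule.span F ({v, u} : Set (ι → F)))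
include hMG hv hv0 hc0 hc hM' horb

/-- In odd characteristic every parameter of two conjugate transvections is a multiplier. -/
theorem lam_self_mem_odd (h2 : (2 : F) ≠ 0) {k : GL ι F} (hk : k ∈ M) :
    lam σ f v (k ◆ v) c c ∈ mult hf hMG hv := by
  classical
  have hiso : ∀ {k : GL ι F}, k ∈ M → f (k ◆ v) (k ◆ v) = 0 := fun hk => by
    rw [mem_isom.mp (hMG hk).1, hv]
  have hut : ∀ {k : GL ι F}, k ∈ M → ut f (k ◆ v) c ∈ M := fun {k} hk => by
    rw [← ut_conj hf hv c (hMG hk).1]; exact mul_mem (mul_mem hk hM') (inv_mem hk)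
  have hzero : ∀ {w : ι → F}, f w v = 0 → lam σ f v w c c = 0 := fun h => by simp [lam, h]
  by_contra hmem
  set w := k ◆ v with hwdef
  set l := lam σ f v w c c with hl
  have hne : f w v ≠ 0 := fun h => hmem (by rw [hl, hzero h]; exact zero_mem _)
  obtain h | ⟨h9, hl2⟩ : l ∈ mult hf hMG hv ∨
      (Nat.card (Subfield.closure ({l} : Set F)) = 9 ∧ l ^ 2 = -1) :=
    lam_mem_or hf hMG hv h2 (hiso hk) hne hc0 hc0 hc hc hM' (hut hk)
  · exact hmem h
  -- the multipliers are `0` and square roots of `1`
  have hsmall : ∀ r ∈ mult hf hMG hv, r ≠ 0 → r ^ 2 = 1 := by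
    intro r hr hr0
    have hrc : r * c + σ (r * c) = 0 := by rw [map_mul, hr.1]; linear_combination r * hc
    have e : lam σ f v w (r * c) c = r * l := by rw [hl, lam, lam]; ring
    rcases lam_mem_or hf hMG hv h2 (hiso hk) hne (mul_ne_zero hr0 hc0) hc0 hrc hc
        (hr.2 c hc hM') (hut hk) with h | ⟨-, h1⟩
    · rw [e] at h
      refine absurd ?_ hmem
      simpa [hr0] using mul_mem (inv_mem hr) h
    · rw [e, mul_pow, hl2] at h1
      linear_combination -h1
  -- all parameters are fourth roots of unity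
  have hfour : ∀ {k' : GL ι F}, k' ∈ M → f (k' ◆ v) v ≠ 0 →
      lam σ f v (k' ◆ v) c c ^ 4 = 1 := by
    intro k' hk' hne'
    rcases lam_mem_or hf hMG hv h2 (hiso hk') hne' hc0 hc0 hc hc hM' (hut hk') with h | ⟨-, h⟩
    · have h0 : lam σ f v (k' ◆ v) c c ≠ 0 :=
        mul_ne_zero (mul_ne_zero hc0 hc0) (mul_ne_zero hne' ((map_ne_zero σ).mpr hne'))
      have := hsmall _ h h0
      linear_combination (lam σ f v (k' ◆ v) c c ^ 2 + 1) * this
    · linear_combination (lam σ f v (k' ◆ v) c c ^ 2 - 1) * h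
  set T := Subfield.closure ({l} : Set F) with hT
  haveI := Fintype.ofFinite T
  have hlT : l ∈ T := Subfield.subset_closure rfl
  rw [Nat.card_eq_fintype_card] at h9
  have h3 : (3 : F) = 0 := by
    have h := congrArg T.subtype (FiniteField.cast_card_eq_zero T)
    rw [h9, map_natCast, map_zero] at h
    exact sq_eq_zero_iff.mp (by push_cast at h; linear_combination h)
  set b := 2 + l with hb
  have hb8 : b ^ 8 = 1 := by
    have hbT : b ∈ T := add_mem (by simpa [map_ofNat] using (2 : T).2) hlT
    have hb0 : b ≠ 0 := fun h => by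
      have : l = -2 := by linear_combination h
      rw [this] at hl2
      exact h2 (by linear_combination hl2 - h3)
    have := congrArg T.subtype
      (FiniteField.pow_card_sub_one_eq_one (⟨b, hbT⟩ : T) fun h => hb0 (congrArg Subtype.val h))
    rw [h9] at this
    simpa using this
  -- centres on the line
  set u := (c * σ (f w v)) • w with hu
  have hfuv : c * f u v = l := by rw [hu, hf.smul_left, hl, lam]; ring
  have hLv : ut f w c ◆ v = v + u := by
    rw [ut_mulVec hf (hiso hk), hu, hf.herm v w]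
  have hLu : ut f w c ◆ u = u := by
    rw [ut_mulVec hf (hiso hk), hu, hf.smul_left, hiso hk]; simp
  have hUv : ut f v c ◆ v = v := by rw [ut_mulVec hf hv, hv]; simp
  have hUu : ut f v c ◆ u = u + l • v := by rw [ut_mulVec hf hv, hfuv]
  have hUjv : ∀ a : F, ut f v a ◆ v = v := fun a => by rw [ut_mulVec hf hv, hv]; simp
  set g1 := ut f w c
  set g2 := (ut f w c)⁻¹
  have hg2v : g2 ◆ v = v - u := by
    refine mulVec_injective g1 ?_
    show g1 ◆ (g2 ◆ v) = g1 ◆ (v - u)
    rw [mulVec_inv_mulVec, mulVec_sub, hLv, hLu]; abel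
  set g0 := ut f v c * g1 * ut f v c * g1
  have hg0v : g0 ◆ v = b • u := by
    have hl0' : 1 + 3 * l + l ^ 2 = 0 := by linear_combination hl2 + l * h3
    simp only [g0, Units.val_mul, ← mulVec_mulVec, hLv, mulVec_add, mulVec_smul, hUv, hUu, hLu]
    rw [hb]
    match_scalars <;> first | ring1 | linear_combination hl0'
  obtain ⟨hh, hhM, hx⟩ := horb u
  set x := hh ◆ v with hxdef
  -- a point of the line is not orthogonal to `x`
  have point : ∀ {k' : GL ι F} (a b' : F), k' ∈ M → k' ◆ v = a • v + b' • u →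
      (c * c * (f (a • v + b' • u) x * σ (f (a • v + b' • u) x))) ^ 4 = 1 := by
    intro k' a b' hk' he
    rw [← he]
    have hki := (hMG hk').1
    have hhi := (hMG hhM).1
    have e : f (k' ◆ v) x = f ((hh⁻¹ * k') ◆ v) v := by
      rw [Units.val_mul, ← mulVec_mulVec, hxdef]
      conv_lhs => rw [← mulVec_inv_mulVec hh (k' ◆ v), mem_isom.mp hhi]
    have hne' : f (k' ◆ v) x ≠ 0 := by
      intro h0
      have hm := mem_span_of_perp hf hn (hiso hhM) (hiso hk') h0 (mulVec_ne_zero k' hv0)
      refine hx (Submodule.span_le.mpr ?_ hm)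
      rintro _ rfl
      rw [he]
      exact Submodule.mem_span_pair.mpr ⟨a, b', rfl⟩
    have := hfour (k' := hh⁻¹ * k') (mul_mem (inv_mem hhM) hk') (by rwa [← e])
    rw [lam, ← e] at this
    exact this
  -- the values of a quadratic polynomial
  set p := f v x
  set q' := f u x
  set P := c * c * (p * σ p)
  set B := c * c * (p * σ q' + q' * σ p)
  set G := c * c * (q' * σ q')
  have hP4 : P ^ 4 = 1 := by
    have h := point (k' := 1) 1 0 (one_mem M) (by simp)
    simp only [one_smul, zero_smul, add_zero] at h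
    exact h
  let pol : Polynomial F := (Polynomial.C P * Polynomial.X ^ 2 + Polynomial.C B * Polynomial.X +
    Polynomial.C G) ^ 4 - 1
  have hσl : σ l = l := sigma_lam hf hMG hc hc
  have hval : ∀ {k' : GL ι F} (a b' : F), k' ∈ M → σ a = a → σ b' = b' → b' ^ 8 = 1 →
      k' ◆ v = a • v + b' • u → pol.IsRoot (a / b') := by
    intro k' a b' hk' ha hb' h8 he
    have hb0 : b' ≠ 0 := fun h => by rw [h] at h8; simp at h8
    have h := point a b' hk' he
    have e : c * c * (f (a • v + b' • u) x * σ (f (a • v + b' • u) x)) =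
        b' ^ 2 * (P * (a / b') ^ 2 + B * (a / b') + G) := by
      simp only [hf.add_left, hf.smul_left, map_add, map_mul, ha, hb', P, B, G, p, q']
      field_simp
      ring
    rw [e, mul_pow, ← pow_mul, h8, one_mul] at h
    simp [pol, Polynomial.IsRoot, h]
  have hs3 : ∀ j : Fin 3, ((![0, 1, -1] j : F)) ^ 3 = ![0, 1, -1] j := by
    intro j; fin_cases j <;> simp <;> norm_num
  let val : Fin 3 × Fin 3 → F := fun ij => (![0, 1, -1] ij.1 : F) + ![0, 1, -1] ij.2 * l
  have hroot : ∀ ij, pol.IsRoot (val ij) := by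
    rintro ⟨i, j⟩
    have hm : ∀ j : Fin 3, ut f v ((![0, 1, -1] j : F) * c) ∈ M := by
      intro j; fin_cases j
      · simp [ut_zero hf, one_mem M]
      · simpa using hM'
      · simpa [← ut_inv hf hv] using inv_mem hM'
    set ej := (![0, 1, -1] j : F) with hej
    have hej' : σ ej = ej := by fin_cases j <;> simp [hej]
    have act : ∀ s : F, ut f v (ej * c) ◆ (s • u) = s • u + (s * (ej * l)) • v := fun s => by
      rw [ut_mulVec hf hv, hf.smul_left, ← hfuv]
      match_scalars <;> ring
    fin_cases i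
    · -- `U^j (U L U L)`
      have hk0 : g0 ∈ M := mul_mem (mul_mem (mul_mem hM' (hut hk)) hM') (hut hk)
      have h := hval (k' := ut f v (ej * c) * g0) (b * (ej * l)) b (mul_mem (hm j) hk0)
        (by rw [map_mul, map_mul, hej', hσl, hb, map_add, map_ofNat, hσl])
        (by rw [hb, map_add, map_ofNat, hσl]) hb8
        (by rw [Units.val_mul, ← mulVec_mulVec, hg0v, act, add_comm])
      have hb0 : b ≠ 0 := fun h => by rw [h] at hb8; simp at hb8
      rw [mul_div_cancel_left₀ _ hb0] at h
      simpa [val, ← hej] using h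
    · have h := hval (k' := ut f v (ej * c) * g1) (1 + ej * l) 1 (mul_mem (hm j) (hut hk))
        (by rw [map_add, map_mul, map_one, hej', hσl]) (map_one σ) (one_pow 8)
        (by
          rw [Units.val_mul, ← mulVec_mulVec, hLv, mulVec_add, hUjv, ← one_smul F u, act]
          module)
      simpa [val, ← hej] using h
    · have h := hval (k' := ut f v (ej * c) * g2) (1 - ej * l) (-1) (mul_mem (hm j) (inv_mem (hut hk)))
        (by rw [map_sub, map_mul, map_one, hej', hσl]) (by rw [map_neg, map_one]) (by ring)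
        (by
          rw [Units.val_mul, ← mulVec_mulVec, hg2v, mulVec_sub, hUjv, ← one_smul F u, act]
          module)
      have e2 : (1 - ej * l) / -1 = -1 + ej * l := by ring
      rw [e2] at h
      simpa [val, ← hej] using h
  have hinj : Function.Injective val := by
    rintro ⟨i, j⟩ ⟨i', j'⟩ h
    simp only [val] at h
    have hd : ∀ a a' : Fin 3, ((![0, 1, -1] a : F) - ![0, 1, -1] a') ^ 3 =
        (![0, 1, -1] a : F) - ![0, 1, -1] a' := fun a a' => by
      linear_combination hs3 a - hs3 a' + ((![0, 1, -1] a : F) * (![0, 1, -1] a') *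
        ((![0, 1, -1] a' : F) - ![0, 1, -1] a)) * h3
    have hee : ∀ a a' : Fin 3, (![0, 1, -1] a : F) = ![0, 1, -1] a' → a = a' := by
      intro a a' e
      fin_cases a <;> fin_cases a' <;> simp at e ⊢ <;>
        first
        | exact h2 (by linear_combination e)
        | exact h2 (by linear_combination -e)
    by_cases hj : (![0, 1, -1] j : F) = ![0, 1, -1] j'
    · rw [hj, add_left_inj] at h
      exact Prod.ext (hee _ _ h) (hee _ _ hj)
    · exfalso
      set dd := (![0, 1, -1] j : F) - ![0, 1, -1] j'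
      have hdd : dd ≠ 0 := sub_ne_zero.mpr hj
      have h1 : dd * l = (![0, 1, -1] i' : F) - ![0, 1, -1] i := by linear_combination h
      have h4 := hd i' i
      rw [← h1, mul_pow, hd] at h4
      have h5 : dd * (l * (l ^ 2 - 1)) = 0 := by linear_combination h4
      rcases mul_eq_zero.mp h5 with h6 | h6
      · exact hdd h6
      rcases mul_eq_zero.mp h6 with h7 | h7
      · rw [h7] at hl2; simp at hl2
      · exact h2 (by linear_combination hl2 - h7)
  have hdeg : pol.natDegree ≤ 8 := by
    refine (Polynomial.natDegree_sub_le _ _).trans (max_le ?_ (by simp))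
    exact Polynomial.natDegree_pow_le.trans (Nat.mul_le_mul_left 4 Polynomial.natDegree_quadratic_le)
  have hpol : pol = 0 := by
    refine Polynomial.eq_zero_of_natDegree_lt_card_of_eval_eq_zero pol hinj hroot ?_
    simp only [Fintype.card_prod, Fintype.card_fin]
    omega
  have hP0 : pol.coeff 8 = P ^ 4 := by
    have h := Polynomial.coeff_pow_of_natDegree_le (p := Polynomial.C P * Polynomial.X ^ 2 +
      Polynomial.C B * Polynomial.X + Polynomial.C G) (m := 4) (n := 2) Polynomial.natDegree_quadratic_le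
    simp only [pol, Polynomial.coeff_sub]
    rw [show (8 : ℕ) = 4 * 2 from rfl, h]
    simp [Polynomial.coeff_one]
  rw [hpol, Polynomial.coeff_zero, hP4] at hP0
  exact zero_ne_one hP0

/-- Even characteristic with a second parameter at `v`. -/
theorem lam_self_mem_even (h2 : (2 : F) = 0) {c' : F} (hc'0 : c' ≠ 0) (hcc : c' ≠ c)
    (hc' : c' + σ c' = 0) (hM'' : ut f v c' ∈ M) {k : GL ι F} (hk : k ∈ M) :
    lam σ f v (k ◆ v) c c ∈ mult hf hMG hv := by
  by_cases hne : f (k ◆ v) v = 0
  · rw [lam, hne, zero_mul, mul_zero]; exact zero_mem _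
  refine lam_mem_even hf hMG hv h2 ?_ hne hc0 hc0 hc'0 hcc hc hc hc' hM' ?_ hM''
  · rw [mem_isom.mp (hMG hk).1, hv]
  · rw [← ut_conj hf hv c (hMG hk).1]; exact mul_mem (mul_mem hk hM') (inv_mem hk)

end Cfsg.Agent.SU3Geo98.SingerT
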