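import Cfsg.Agent.SU3Geo98.SingerT.Gen
import Cfsg.Agent.MaxSub.HermStab

/-!
Two transvection groups in a subgroup of the unitary group: the multiplier field of a transvection
group (helper66).
-/

set_option autoImplicit false
set_option linter.unusedSectionVars false

namespace Cfsg.Agent.SU3Geo98.SingerT

open Matrix Cfsg.Agent.MaxSub Cfsg.Agent.HermStab
open scoped MatrixGroups
open Cfsg.Agent.PLocalB (upper lower)

variable {ι : Type} [Fintype ι] [DecidableEq ι] {F : Type*} [Field F] [Fintype F]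
variable {σ : F ≃+* F} {f : (ι → F) → (ι → F) → F}

local notation:73 g:74 " ◆ " x:73 => (Units.val g) *ᵥ x

/-- The action of `M` on the `T`-lattice of `v`, `u`. -/
def plane (M : Subgroup (GL ι F)) (T : Subfield F) (v u : ι → F) : Subgroup SL(2, T) where
  carrier := {A | ∃ k ∈ M, k ◆ v = (A 0 0 : F) • v + (A 1 0 : F) • u ∧
    k ◆ u = (A 0 1 : F) • v + (A 1 1 : F) • u}
  one_mem' := ⟨1, one_mem M, by simp, by simp⟩
  mul_mem' := by
    rintro A B ⟨k, hk, hkv, hku⟩ ⟨l, hl, hlv, hlu⟩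
    refine ⟨k * l, mul_mem hk hl, ?_, ?_⟩ <;>
    · simp only [Units.val_mul, ← mulVec_mulVec, hlv, hlu, mulVec_add, mulVec_smul, hkv, hku,
        Matrix.SpecialLinearGroup.coe_mul, Matrix.mul_apply, Fin.sum_univ_two]
      push_cast
      module
  inv_mem' := by
    rintro A ⟨k, hk, hkv, hku⟩
    have hd : (A 0 0 : F) * A 1 1 - A 0 1 * A 1 0 = 1 := by
      have h := congrArg (fun x : T => (x : F)) (PLocalB.det_entries A)
      push_cast at h
      linear_combination h
    refine ⟨k⁻¹, inv_mem hk, mulVec_injective k ?_, mulVec_injective k ?_⟩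
    all_goals
      show k ◆ ((k⁻¹ : GL ι F) ◆ _) = k ◆ _
      rw [mulVec_inv_mulVec]
      simp only [Matrix.SpecialLinearGroup.coe_inv, Matrix.adjugate_fin_two, Matrix.of_apply,
        Matrix.cons_val', Matrix.cons_val_zero, Matrix.cons_val_one, Matrix.empty_val',
        Matrix.cons_val_fin_one, mulVec_add, mulVec_smul, hkv, hku]
      push_cast
      match_scalars <;> first | linear_combination -hd | linear_combination hd | ring1

theorem mem_plane {M : Subgroup (GL ι F)} {T : Subfield F} {v u : ι → F} {A : SL(2, T)} :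
    A ∈ plane M T v u ↔ ∃ k ∈ M, k ◆ v = (A 0 0 : F) • v + (A 1 0 : F) • u ∧
      k ◆ u = (A 0 1 : F) • v + (A 1 1 : F) • u := Iff.rfl

variable (hf : Geo.IsUnitaryForm σ f)
include hf

theorem ut_zero {v : ι → F} : ut f v 0 = 1 := by simp [ut]

theorem ut_mul {v : ι → F} (hv : f v v = 0) (a b : F) : ut f v a * ut f v b = ut f v (a + b) :=
  gl_ext fun x => by
    rw [Units.val_mul, ← mulVec_mulVec, ut_mulVec hf hv, ut_mulVec hf hv, ut_mulVec hf hv,
      hf.add_left, hf.smul_left, hv]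
    module

theorem ut_inv {v : ι → F} (hv : f v v = 0) (a : F) : (ut f v a)⁻¹ = ut f v (-a) :=
  inv_eq_of_mul_eq_one_right (by rw [ut_mul hf hv, add_neg_cancel, ut_zero hf])

theorem ut_conj {v : ι → F} (hv : f v v = 0) (c : F) {k : GL ι F} (hki : k ∈ isom f) :
    k * ut f v c * k⁻¹ = ut f (k ◆ v) c := by
  rw [ut, tv_conj k (ut_dot hf hv c), smul_vecMul, hrep_vecMul_inv hf hki, ut]

theorem ut_smul {v : ι → F} (hv : f v v = 0) (r c : F) :
    ut f (r • v) c = ut f v (c * σ r * r) := gl_ext fun x => by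
  rw [ut_mulVec hf (by rw [hf.smul_left, hsmul_right hf, hv]; simp), ut_mulVec hf hv,
    hsmul_right hf]
  module

variable {M : Subgroup (GL ι F)}

/-- The multipliers of the transvection group of `M` at `v`. -/
def mult (hMG : M ≤ su f) {v : ι → F} (hv : f v v = 0) : Subfield F where
  carrier := {r | σ r = r ∧ ∀ e, e + σ e = 0 → ut f v e ∈ M → ut f v (r * e) ∈ M}
  zero_mem' := ⟨map_zero σ, fun e _ _ => by rw [zero_mul, ut_zero hf]; exact one_mem M⟩
  one_mem' := ⟨map_one σ, fun e _ he => by rwa [one_mul]⟩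
  add_mem' := fun {a b} ha hb => ⟨by rw [map_add, ha.1, hb.1], fun e h he => by
    rw [add_mul, ← ut_mul hf hv]; exact mul_mem (ha.2 e h he) (hb.2 e h he)⟩
  neg_mem' := fun {a} ha => ⟨by rw [map_neg, ha.1], fun e h he => by
    rw [neg_mul, ← ut_inv hf hv]; exact inv_mem (ha.2 e h he)⟩
  mul_mem' := fun {a b} ha hb => ⟨by rw [map_mul, ha.1, hb.1], fun e h he => by
    rw [mul_assoc]
    exact ha.2 _ (by rw [map_mul, hb.1]; linear_combination b * h) (hb.2 e h he)⟩
  inv_mem' := fun a ha => by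
    refine ⟨by rw [map_inv₀, ha.1], fun e h he => ?_⟩
    by_cases ha0 : a = 0
    · rw [ha0, _root_.inv_zero, zero_mul, ut_zero hf]; exact one_mem M
    have hq : 2 ≤ Fintype.card F := Fintype.one_lt_card
    have hpow : a⁻¹ = a ^ (Fintype.card F - 2) := by
      refine inv_eq_of_mul_eq_one_right ?_
      rw [← pow_succ', show Fintype.card F - 2 + 1 = Fintype.card F - 1 by omega,
        FiniteField.pow_card_sub_one_eq_one a ha0]
    have key : ∀ n : ℕ, ut f v (a ^ n * e) ∈ M := by
      intro n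
      induction n with
      | zero => simpa using he
      | succ n ih =>
        rw [pow_succ', mul_assoc]
        exact ha.2 _ (by rw [map_mul, map_pow, ha.1]; linear_combination a ^ n * h) ih
    rw [hpow]; exact key _

theorem mem_mult {hMG : M ≤ su f} {v : ι → F} {hv : f v v = 0} {r : F} :
    r ∈ mult hf hMG hv ↔
      σ r = r ∧ ∀ e, e + σ e = 0 → ut f v e ∈ M → ut f v (r * e) ∈ M := Iff.rfl

variable (hMG : M ≤ su f) {v : ι → F} (hv : f v v = 0)
include hMG

theorem sigma_closure {S : Set F} (hS : ∀ s ∈ S, σ s = s) {r : F} (hr : r ∈ Subfield.closure S) :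
    σ r = r := by
  induction hr using Subfield.closure_induction with
  | mem x hx => exact hS x hx
  | one => exact map_one σ
  | add x y _ _ hx hy => rw [map_add, hx, hy]
  | neg x _ hx => rw [map_neg, hx]
  | inv x _ hx => rw [map_inv₀, hx]
  | mul x y _ _ hx hy => rw [map_mul, hx, hy]

/-- A full plane group gives the multipliers. -/
theorem le_mult (T : Subfield F) (hTσ : ∀ t ∈ T, σ t = t) {u : ι → F}
    (hfull : ∀ A : SL(2, T), A ∈ plane M T v u ∨ -A ∈ plane M T v u) :
    T ≤ mult hf hMG hv := by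
  haveI := Fintype.ofFinite T
  have hsq : ∀ s ∈ T, s ^ 2 ∈ mult hf hMG hv := by
    intro s hs
    by_cases hs0 : s = 0
    · rw [hs0]; simpa using zero_mem (mult hf hMG hv)
    refine ⟨by rw [map_pow, hTσ s hs], fun e he hM' => ?_⟩
    let A : SL(2, T) := ⟨!![⟨s, hs⟩, 0; 0, ⟨s⁻¹, inv_mem hs⟩], by
      rw [det_fin_two_of]
      exact Subtype.ext (by simp [hs0])⟩
    obtain ⟨r, k, hk, hr, hkv⟩ : ∃ r, ∃ k ∈ M, σ r * r = s ^ 2 ∧ k ◆ v = r • v := by
      rcases hfull A with ⟨k, hk, hkv, -⟩ | ⟨k, hk, hkv, -⟩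
      · exact ⟨s, k, hk, by rw [hTσ s hs]; ring, by simpa [A] using hkv⟩
      · exact ⟨-s, k, hk, by rw [map_neg, hTσ s hs]; ring, by
          rw [Matrix.SpecialLinearGroup.coe_neg, Matrix.neg_apply, Matrix.neg_apply] at hkv
          simpa [A] using hkv⟩
    have h := mul_mem (mul_mem hk hM') (inv_mem hk)
    rw [ut_conj hf hv e (hMG hk).1, hkv, ut_smul hf hv] at h
    rwa [show s ^ 2 * e = e * σ r * r by rw [← hr]; ring]
  intro t ht
  by_cases h2 : (2 : F) = 0
  · haveI : CharP F 2 := CharTwo.of_one_ne_zero_of_two_eq_zero one_ne_zero h2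
    obtain ⟨z, hz⟩ := (FiniteField.isSquare_of_char_two
      (ringChar.eq T 2) ⟨t, ht⟩ : IsSquare (⟨t, ht⟩ : T))
    have : t = (z : F) ^ 2 := by rw [sq]; exact congrArg Subtype.val hz
    rw [this]; exact hsq _ z.2
  · have h1 := sub_mem (hsq _ (add_mem ht (one_mem T))) (hsq _ ht)
    have h3 := sub_mem h1 (one_mem _)
    have h4 : (2 : F) ∈ mult hf hMG hv := by
      rw [show (2 : F) = 1 + 1 by norm_num]; exact add_mem (one_mem _) (one_mem _)
    have := mul_mem (inv_mem h4) h3
    rwa [show (2 : F)⁻¹ * ((t + 1) ^ 2 - t ^ 2 - 1) = t by field_simp; ring] at this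

/-- The parameter of two transvections. -/
def lam (σ : F ≃+* F) (f : (ι → F) → (ι → F) → F) (v w : ι → F) (d d' : F) : F :=
  d * d' * (f w v * σ (f w v))

theorem sigma_lam {w : ι → F} {d d' : F} (hd : d + σ d = 0) (hd' : d' + σ d' = 0) :
    σ (lam σ f v w d d') = lam σ f v w d d' := by
  simp only [lam, map_mul, hf.involutive, eq_neg_of_add_eq_zero_right hd,
    eq_neg_of_add_eq_zero_right hd']
  ring

include hv in
theorem upper_mem (T : Subfield F) {w : ι → F} {d d' : F} (hM' : ut f v d ∈ M)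
    (hl : lam σ f v w d d' ∈ T) :
    upper (⟨_, hl⟩ : T) ∈ plane M T v ((d' * σ (f w v)) • w) := by
  refine ⟨_, hM', ?_, ?_⟩
  · rw [ut_mulVec hf hv, hv]; simp [upper]
  · rw [ut_mulVec hf hv, hf.smul_left]
    simp [upper, lam]
    match_scalars <;> ring

theorem lower_mem (T : Subfield F) {w : ι → F} (hw : f w w = 0) {d' : F} (hM' : ut f w d' ∈ M) :
    lower (1 : T) ∈ plane M T v ((d' * σ (f w v)) • w) := by
  refine ⟨_, hM', ?_, ?_⟩
  · rw [ut_mulVec hf hw, hf.herm v w]
    simp [lower]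
  · rw [ut_mulVec hf hw, hf.smul_left, hw]; simp [lower]

theorem closure_top (S : Set F) (T : Subfield F) (hT : T = Subfield.closure S) (U : Set T)
    (hU : S ⊆ T.subtype '' U) : Subfield.closure U = ⊤ := by
  refine top_le_iff.mp fun x _ => ?_
  have h : T ≤ (Subfield.closure U).map T.subtype := by
    conv_lhs => rw [hT]
    rw [Subfield.closure_le]
    exact fun s hs => Set.image_mono Subfield.subset_closure (hU hs)
  obtain ⟨y, hy, hyx⟩ := h x.2
  exact Subtype.ext hyx ▸ hy

/-- Odd characteristic: the parameter is a multiplier, or the exception of `SL₂(9)`. -/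
theorem lam_mem_or (h2 : (2 : F) ≠ 0) {w : ι → F} (hw : f w w = 0) (hne : f w v ≠ 0) {d d' : F}
    (hd0 : d ≠ 0) (hd'0 : d' ≠ 0) (hd : d + σ d = 0) (hd' : d' + σ d' = 0)
    (hM₁ : ut f v d ∈ M) (hM₂ : ut f w d' ∈ M) :
    lam σ f v w d d' ∈ mult hf hMG hv ∨
      (Nat.card (Subfield.closure ({lam σ f v w d d'} : Set F)) = 9 ∧
        lam σ f v w d d' ^ 2 = -1) := by
  set l := lam σ f v w d d' with hl
  set T := Subfield.closure ({l} : Set F) with hT
  haveI := Fintype.ofFinite T
  have hlT : l ∈ T := Subfield.subset_closure rfl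
  have hl0 : l ≠ 0 := mul_ne_zero (mul_ne_zero hd0 hd'0)
    (mul_ne_zero hne ((map_ne_zero σ).mpr hne))
  have hgen := closure_top hf hMG {l} T hT {⟨l, hlT⟩} (by simp)
  rcases sl2_top_odd (T := T) (fun h => h2 (by simpa [map_ofNat] using congrArg T.subtype h)) _
      (lam := ⟨l, hlT⟩) (fun h => hl0 (congrArg Subtype.val h)) hgen
      (lower_mem hf hMG T hw hM₂) (upper_mem hf hMG hv T hM₁ hlT) with h | ⟨h9, h1⟩
  · exact Or.inl (le_mult hf hMG hv T
      (fun t ht => sigma_closure hf hMG (by simpa using sigma_lam hf hMG hd hd') ht) h hlT)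
  · exact Or.inr ⟨by rw [Nat.card_eq_fintype_card]; exact h9,
      by simpa using congrArg Subtype.val h1⟩

/-- Even characteristic with two parameters at `v`. -/
theorem lam_mem_even (h2 : (2 : F) = 0) {w : ι → F} (hw : f w w = 0) (hne : f w v ≠ 0)
    {d d' d'' : F} (hd0 : d ≠ 0) (hd'0 : d' ≠ 0) (hd''0 : d'' ≠ 0) (hdd : d'' ≠ d)
    (hd : d + σ d = 0) (hd' : d' + σ d' = 0) (hd'' : d'' + σ d'' = 0)
    (hM₁ : ut f v d ∈ M) (hM₂ : ut f w d' ∈ M) (hM₃ : ut f v d'' ∈ M) :
    lam σ f v w d d' ∈ mult hf hMG hv := by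
  haveI : CharP F 2 := CharTwo.of_one_ne_zero_of_two_eq_zero one_ne_zero h2
  set l := lam σ f v w d d' with hl
  set n := lam σ f v w d'' d' with hn
  set T := Subfield.closure ({l, n} : Set F) with hT
  haveI := Fintype.ofFinite T
  have hlT : l ∈ T := Subfield.subset_closure (Or.inl rfl)
  have hnT : n ∈ T := Subfield.subset_closure (Or.inr rfl)
  have hN := mul_ne_zero hne ((map_ne_zero σ).mpr hne)
  have hgen := closure_top hf hMG {l, n} T hT {⟨l, hlT⟩, ⟨n, hnT⟩} (by simp [Set.image_pair])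
  have h := sl2_top_even (T := T) _ (lam := ⟨l, hlT⟩) (nu := ⟨n, hnT⟩)
    (fun h => mul_ne_zero (mul_ne_zero hd0 hd'0) hN (congrArg Subtype.val h))
    (fun h => mul_ne_zero (mul_ne_zero hd''0 hd'0) hN (congrArg Subtype.val h))
    (fun h => hdd (mul_right_cancel₀ hd'0 (mul_right_cancel₀ hN (congrArg Subtype.val h))))
    hgen (lower_mem hf hMG T hw hM₂) (upper_mem hf hMG hv T hM₁ hlT)
    (upper_mem hf hMG hv T hM₃ hnT)
  exact le_mult hf hMG hv T (fun t ht => sigma_closure hf hMG (by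
    rintro s (rfl | rfl)
    · exact sigma_lam hf hMG hd hd'
    · exact sigma_lam hf hMG hd'' hd') ht) (fun A => Or.inl (h A)) hlT

end Cfsg.Agent.SU3Geo98.SingerT
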