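import Cfsg.Agent.MaxSub.HermStab
import Mathlib.FieldTheory.Finite.Trace

/-!
The norms `N f(gⁿ v, v)` of a Singer element generate the real field (helper66).
-/

set_option autoImplicit false
set_option linter.unusedSectionVars false

namespace Cfsg.Agent.SU3Geo98.SingerT

open Matrix Cfsg.Agent.MaxSub Cfsg.Agent.HermStab

local notation:73 g:74 " ◆ " x:73 => (Units.val g) *ᵥ x

/-- Separation of the six exponents. -/
theorem exp_sep {q r : ℕ} (hq : 4 ≤ q) (hq5 : q ≠ 5) (hr : r = 1 ∨ 2 ≤ r ∧ 2 * r ≤ q) (k l : Fin 3)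
    (h : ((q : ℤ) ^ 2 - q + 1) ∣
      (r : ℤ) * (1 - (q : ℤ) ^ 2) - (((q : ℤ) ^ 2) ^ (k : ℕ) - ((q : ℤ) ^ 2) ^ (l : ℕ))) :
    r = 1 ∧ k = 0 ∧ l = 1 := by
  set N := (q : ℤ) ^ 2 - q + 1 with hN
  obtain ⟨t, ht⟩ := h
  let e : Fin 3 → ℤ := ![0, -1, -(q : ℤ)]
  let S : Fin 3 → ℤ := ![0, (q : ℤ) + 2, ((q : ℤ) ^ 2 + q) * (q + 1) - 1]
  have key : ∀ i : Fin 3, (((q : ℤ) ^ 2) ^ (i : ℕ) - 1) * ((q : ℤ) + 1) = 3 * e i + N * S i := by
    intro i; fin_cases i <;> simp [e, S, hN] <;> ring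
  have h3 : N ∣ 3 * ((r : ℤ) - (e k - e l)) := by
    refine ⟨t * ((q : ℤ) + 1) + r * ((q : ℤ) + 2) + (S k - S l), ?_⟩
    have hk := key k
    have hl := key l
    rw [hN] at ht hk hl ⊢
    linear_combination ((q : ℤ) + 1) * ht + -hl + hk
  have he : ∀ i : Fin 3, -(q : ℤ) ≤ e i ∧ e i ≤ 0 := by
    intro i; fin_cases i <;> simp [e] <;> omega
  have hek := he k
  have hel := he l
  have hzero : (r : ℤ) - (e k - e l) = 0 := by
    by_cases h4 : q = 4
    · subst h4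
      norm_num [hN] at h3
      omega
    have h6 : (6 : ℤ) ≤ q := by omega
    have hlt : |3 * ((r : ℤ) - (e k - e l))| < N := by
      rw [abs_lt, hN]
      have hb : 6 * (q : ℤ) ≤ (q : ℤ) ^ 2 := by nlinarith
      constructor <;> rcases hr with hr | ⟨-, hr⟩ <;> omega
    have := Int.eq_zero_of_abs_lt_dvd h3 hlt
    omega
  fin_cases k <;> fin_cases l <;> simp [e] at hzero <;>
    first
    | omega
    | exact ⟨by omega, rfl, rfl⟩

variable {ι : Type} [Fintype ι] [DecidableEq ι] {F : Type*} [Field F] [Fintype F]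

section Field

variable {K : Subalgebra F (Matrix ι ι F)}

theorem isField_of (hn : Fintype.card ι = 3) (hK : Geo.IsFieldSubalgebra 3 K) : IsField K := by
  haveI : Nonempty ι := Fintype.card_pos_iff.mp (by omega)
  refine ⟨⟨0, 1, fun h => zero_ne_one (congrArg Subtype.val h)⟩,
    fun x y => Subtype.ext (hK.comm _ x.2 _ y.2), fun {x} hx => ?_⟩
  obtain ⟨y, hy, hxy⟩ := hK.inv _ x.2 fun h => hx (Subtype.ext h)
  exact ⟨⟨y, hy⟩, Subtype.ext hxy⟩

/-- The field acts regularly on the vectors. -/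
theorem exists_mulVec_eq (hn : Fintype.card ι = 3) (hK : Geo.IsFieldSubalgebra 3 K) {w : ι → F}
    (hw : w ≠ 0) (y : ι → F) : ∃ x ∈ K, x *ᵥ w = y := by
  let L : K →ₗ[F] (ι → F) :=
    { toFun := fun x => (x : Matrix ι ι F) *ᵥ w
      map_add' := fun a b => by simp [add_mulVec]
      map_smul' := fun a b => by simp [smul_mulVec] }
  have hinj : Function.Injective L := by
    rw [injective_iff_map_eq_zero]
    intro x hx
    by_contra h
    obtain ⟨z, hz', hz⟩ := hK.inv _ x.2 fun h' => h (Subtype.ext h')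
    refine hw ?_
    have hx' : (x : Matrix ι ι F) *ᵥ w = 0 := hx
    rw [← one_mulVec w, ← hz, hK.comm _ x.2 _ hz', ← mulVec_mulVec, hx', mulVec_zero]
  have hsur := (LinearMap.injective_iff_surjective_of_finrank_eq_finrank
    (by rw [hK.finrank_eq, Module.finrank_pi, hn])).mp hinj
  obtain ⟨x, hx⟩ := hsur y
  exact ⟨x, x.2, hx⟩

variable {q : ℕ} (hF : Fintype.card F = q ^ 2) {g : GL ι F}

include hF in
/-- A Singer element leaves no proper subspace invariant. -/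
theorem eq_top_of_invariant (hn : Fintype.card ι = 3) (hK : Geo.IsFieldSubalgebra 3 K) (hq : 3 ≤ q)
    (hgK : (g : Matrix ι ι F) ∈ K) (hgo : orderOf g = q ^ 2 - q + 1) {W : Submodule F (ι → F)}
    (hW0 : W ≠ ⊥) (hW : ∀ x ∈ W, g ◆ x ∈ W) : W = ⊤ := by
  letI : Field K := (isField_of hn hK).toField
  let S : Subalgebra F K :=
    { carrier := {x | ∀ y ∈ W, (x : Matrix ι ι F) *ᵥ y ∈ W}
      mul_mem' := fun {a b} ha hb y hy => by
        rw [MulMemClass.coe_mul, ← mulVec_mulVec]; exact ha _ (hb y hy)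
      add_mem' := fun {a b} ha hb y hy => by
        rw [AddMemClass.coe_add, add_mulVec]; exact W.add_mem (ha y hy) (hb y hy)
      algebraMap_mem' := fun r y hy => by
        rw [Subalgebra.coe_algebraMap, Algebra.algebraMap_eq_smul_one, smul_mulVec, one_mulVec]
        exact W.smul_mem r hy }
  haveI := Subalgebra.isSimpleOrder_of_finrank_prime F K (hK.finrank_eq ▸ Nat.prime_three)
  have hS : S = ⊤ := by
    refine (eq_bot_or_eq_top S).resolve_left fun h => ?_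
    have hg : (⟨_, hgK⟩ : K) ∈ S := fun y hy => hW y hy
    rw [h, Algebra.mem_bot] at hg
    obtain ⟨a, ha⟩ := hg
    have ha' : algebraMap F (Matrix ι ι F) a = (g : Matrix ι ι F) := congrArg Subtype.val ha
    have ha0 : a ≠ 0 := fun h0 => by
      rw [h0, map_zero] at ha'
      haveI : Nonempty ι := Fintype.card_pos_iff.mp (by omega)
      exact g.ne_zero ha'.symm
    have h1 : g ^ (q ^ 2 - 1) = 1 := Units.ext (by
      rw [Units.val_pow_eq_pow_val, ← ha', ← map_pow, ← hF,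
        FiniteField.pow_card_sub_one_eq_one a ha0, map_one, Units.val_one])
    have h2 := orderOf_dvd_of_pow_eq_one h1
    rw [hgo] at h2
    have hq2 : q ≤ q ^ 2 := Nat.le_self_pow two_ne_zero q
    have h3 := Nat.dvd_sub h2 (dvd_refl (q ^ 2 - q + 1))
    rw [show q ^ 2 - 1 - (q ^ 2 - q + 1) = q - 2 by omega] at h3
    have := Nat.le_of_dvd (by omega) h3
    nlinarith [Nat.sub_add_cancel hq2, Nat.sub_add_cancel (show 2 ≤ q by omega)]
  obtain ⟨w, hw, hw0⟩ := W.ne_bot_iff.mp hW0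
  refine eq_top_iff.mpr fun y _ => ?_
  obtain ⟨x, hx, rfl⟩ := exists_mulVec_eq hn hK hw0 y
  exact (hS ▸ Algebra.mem_top : (⟨x, hx⟩ : K) ∈ S) w hw

end Field

variable {q : ℕ} (hF : Fintype.card F = q ^ 2) (hq : 4 ≤ q) (hq5 : q ≠ 5)
variable {σ : F ≃+* F} (hσ : ∀ x, σ x = x ^ q) {f : (ι → F) → (ι → F) → F}
variable (hf : Geo.IsUnitaryForm σ f) (hn : Fintype.card ι = 3)
variable {K : Subalgebra F (Matrix ι ι F)} (hK : Geo.IsFieldSubalgebra 3 K) {g : GL ι F}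
variable (hgi : g ∈ isom f) (hgK : (g : Matrix ι ι F) ∈ K) (hgo : orderOf g = q ^ 2 - q + 1)
include hF hq hq5 hσ hf hn hK hgi hgK hgo

theorem real_mem_of_norms {v : ι → F} (hv0 : v ≠ 0) {c : F} (hc0 : c ≠ 0) (R : Subfield F)
    (hRσ : ∀ r ∈ R, σ r = r)
    (hmem : ∀ n : ℕ, c * c * (f ((g ^ n : GL ι F) ◆ v) v * σ (f ((g ^ n : GL ι F) ◆ v) v)) ∈ R)
    {x : F} (hx : σ x = x) : x ∈ R := by
  classical
  haveI := Fintype.ofFinite R
  letI : Field K := (isField_of hn hK).toField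
  haveI : Finite K := Finite.of_injective (fun x : K => (x : Matrix ι ι F)) Subtype.coe_injective
  set r := Fintype.card R with hr
  have hle : ∀ y ∈ R, y ^ q = y := fun y hy => by rw [← hσ]; exact hRσ y hy
  let emb : R → {y : F // y ^ q = y} := fun y => ⟨y, hle y y.2⟩
  have hemb : Function.Injective emb := fun a b h => Subtype.ext (congrArg (fun y => y.val) h)
  have hcard : r ≤ q := by
    rw [hr, ← Nat.card_eq_fintype_card, ← Unitary.card_fixed hF]
    exact Nat.card_le_card_of_injective emb hemb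
  by_cases hrq : r = q
  · obtain ⟨y, hy⟩ := ((Nat.bijective_iff_injective_and_card emb).mpr
      ⟨hemb, by rw [Nat.card_eq_fintype_card, ← hr, hrq, Unitary.card_fixed hF]⟩).surjective
      ⟨x, by rw [← hσ]; exact hx⟩
    have h' : (y : F) = x := congrArg (fun w => w.val) hy
    exact h' ▸ y.2
  exfalso
  obtain ⟨p, hp⟩ := CharP.exists F
  haveI := hp
  haveI : CharP R p := (RingHom.charP_iff_charP R.subtype p).mpr hp
  obtain ⟨nF, hpp, hnF⟩ := FiniteField.card F p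
  haveI := Fact.mk hpp
  obtain ⟨⟨m, hm0⟩, -, hm⟩ := FiniteField.card R p
  replace hm : r = p ^ m := hm
  obtain ⟨k, -, hk⟩ := (Nat.dvd_prime_pow hpp).mp
    (show q ∣ p ^ (nF : ℕ) by rw [← hnF, hF]; exact dvd_pow_self q two_ne_zero)
  have h2r : 2 * r ≤ q := by
    have hlt : p ^ m < p ^ k := by rw [← hm, ← hk]; omega
    have hmk := (Nat.pow_lt_pow_iff_right hpp.one_lt).mp hlt
    calc 2 * r ≤ p * p ^ m := by rw [hm]; exact Nat.mul_le_mul_right _ hpp.two_le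
      _ = p ^ (m + 1) := by ring
      _ ≤ p ^ k := Nat.pow_le_pow_right hpp.pos hmk
      _ = q := hk.symm
  have hr2 : 2 ≤ r := Fintype.one_lt_card
  -- the functional as a trace
  let φ : K →ₗ[F] F :=
    { toFun := fun x => f ((x : Matrix ι ι F) *ᵥ v) v
      map_add' := fun a b => by simp [add_mulVec, hf.add_left]
      map_smul' := fun a b => by simp [smul_mulVec, hf.smul_left] }
  have hB := traceForm_nondegenerate F K
  set a := ((Algebra.traceForm F K).toDual hB).symm φ with hadef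
  have hφ : ∀ y, φ y = Algebra.trace F K (a * y) := fun y => by
    rw [← Algebra.traceForm_apply, hadef, LinearMap.BilinForm.apply_toDual_symm_apply]
  have ha0 : a ≠ 0 := by
    intro h
    obtain ⟨y₀, hy₀⟩ := (hf.nondegenerate v hv0).2
    obtain ⟨x, hx, he⟩ := exists_mulVec_eq hn hK hv0 y₀
    have h1 := hφ ⟨x, hx⟩
    rw [h, zero_mul, map_zero] at h1
    apply hy₀
    rw [← he]
    exact hswap_zero hf h1
  set ι' := algebraMap F K
  set Q := q ^ 2 with hQ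
  have htr : ∀ y : K, ι' (φ y) = ∑ i : Fin 3, a ^ (Q ^ (i : ℕ)) * y ^ (Q ^ (i : ℕ)) := by
    intro y
    rw [hφ, FiniteField.algebraMap_trace_eq_sum_pow, hK.finrank_eq, Nat.card_eq_fintype_card, hF,
      Finset.sum_range]
    exact Finset.sum_congr rfl fun i _ => mul_pow _ _ _
  -- the Singer element in the field
  have hζ0 : (⟨_, hgK⟩ : K) ≠ 0 := fun h => by
    haveI : Nonempty ι := Fintype.card_pos_iff.mp (by omega)
    exact g.ne_zero (congrArg Subtype.val h)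
  set ζ : Kˣ := Units.mk0 ⟨_, hgK⟩ hζ0 with hζ
  set N := q ^ 2 - q + 1 with hN
  have hpow : ∀ n : ℕ, (((ζ ^ n : Kˣ) : K) : Matrix ι ι F) = ((g ^ n : GL ι F) : Matrix ι ι F) := by
    intro n; simp [hζ]
  have hord : orderOf ζ = N := by
    show orderOf ζ = N
    rw [← hgo]
    refine orderOf_eq_orderOf_iff.mpr fun n => ?_
    constructor <;> intro h
    · exact Units.ext (by rw [← hpow, h]; simp)
    · exact Units.ext (Subtype.ext (by rw [hpow, h]; simp))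
  have hpowinv : ∀ n : ℕ, ((((ζ ^ n)⁻¹ : Kˣ) : K) : Matrix ι ι F) =
      (((g ^ n)⁻¹ : GL ι F) : Matrix ι ι F) := by
    intro n
    refine (Units.inv_eq_of_mul_eq_one_right ?_).symm
    rw [← hpow, ← MulMemClass.coe_mul, ← Units.val_mul, mul_inv_cancel]
    simp
  -- the six characters
  let z : Fin 3 × Fin 3 → Kˣ := fun kl =>
    ζ ^ (((Q : ℤ) ^ (kl.1 : ℕ)) - (Q : ℤ) ^ (kl.2 : ℕ))
  let A : Fin 3 × Fin 3 → K := fun kl => a ^ (Q ^ (kl.1 : ℕ)) * a ^ (Q ^ (kl.2 : ℕ))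
  have hψ : ∀ n : ℕ, ι' (f ((g ^ n : GL ι F) ◆ v) v * σ (f ((g ^ n : GL ι F) ◆ v) v)) =
      ∑ kl, A kl * ((z kl : Kˣ) : K) ^ n := by
    intro n
    have e1 : f ((g ^ n : GL ι F) ◆ v) v = φ ((ζ ^ n : Kˣ) : K) := by
      show _ = f _ v
      rw [hpow]
    have e2 : σ (f ((g ^ n : GL ι F) ◆ v) v) = φ (((ζ ^ n)⁻¹ : Kˣ) : K) := by
      show _ = f _ v
      rw [← hf.herm, hpowinv]
      conv_rhs => rw [← mem_isom.mp (pow_mem hgi n)]
      rw [mulVec_inv_mulVec]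
    rw [e2, e1, map_mul, htr, htr, Finset.sum_mul_sum, Fintype.sum_prod_type]
    refine Finset.sum_congr rfl fun k _ => Finset.sum_congr rfl fun l _ => ?_
    have e3 : ((z (k, l) : Kˣ) : K) ^ n = ((ζ ^ n : Kˣ) : K) ^ (Q ^ (k : ℕ)) *
        (((ζ ^ n)⁻¹ : Kˣ) : K) ^ (Q ^ (l : ℕ)) := by
      simp only [z]
      rw [← Units.val_pow_eq_pow_val, ← Units.val_pow_eq_pow_val, ← Units.val_pow_eq_pow_val,
        ← Units.val_mul]
      congr 1
      rw [← zpow_natCast ζ n, ← _root_.zpow_neg, ← zpow_natCast (ζ ^ ((n : ℤ))),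
        ← zpow_natCast (ζ ^ (-(n : ℤ))), ← zpow_natCast (ζ ^ _) n, ← _root_.zpow_mul, ← _root_.zpow_mul,
        ← _root_.zpow_mul, ← _root_.zpow_add]
      congr 1
      push_cast
      ring
    rw [e3]
    show _ = a ^ (Q ^ (k : ℕ)) * a ^ (Q ^ (l : ℕ)) * _
    ring
  haveI hKp : CharP K p := charP_of_injective_algebraMap (algebraMap F K).injective p
  set C := ι' (c * c) with hCdef
  have heq : ∀ n : ℕ, ∑ kl, C ^ r * A kl ^ r * (((z kl : Kˣ) : K) ^ r) ^ n =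
      ∑ kl, C * A kl * ((z kl : Kˣ) : K) ^ n := by
    intro n
    have h0 : (c * c * (f ((g ^ n : GL ι F) ◆ v) v * σ (f ((g ^ n : GL ι F) ◆ v) v))) ^ r =
        c * c * (f ((g ^ n : GL ι F) ◆ v) v * σ (f ((g ^ n : GL ι F) ◆ v) v)) := by
      simpa [hr] using congrArg Subtype.val (FiniteField.pow_card (⟨_, hmem n⟩ : R))
    have h := congrArg ι' h0
    rw [map_pow, map_mul, hψ, ← hCdef, Finset.mul_sum, hm, sum_pow_char_pow, ← hm] at h
    convert! h using 1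
    · refine Finset.sum_congr rfl fun kl _ => ?_
      rw [mul_pow C, mul_pow (A kl), ← pow_mul ((z kl : Kˣ) : K) n r, mul_comm n r, pow_mul, mul_assoc]
    · refine Finset.sum_congr rfl fun kl _ => ?_
      rw [mul_assoc]
  -- Fourier coefficient
  set z₀ : Kˣ := z (0, 1) ^ r with hz₀
  have hzN : ∀ w : Kˣ, (∃ e : ℤ, w = ζ ^ e) → w ^ N = 1 := by
    rintro w ⟨e, rfl⟩
    rw [← zpow_natCast, ← _root_.zpow_mul, mul_comm, _root_.zpow_mul, zpow_natCast, ← hord, pow_orderOf_eq_one,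
      _root_.one_zpow]
  have hgeom : ∀ w : Kˣ, (∃ e : ℤ, w = ζ ^ e) → w ≠ 1 →
      ∑ n ∈ Finset.range N, (w : K) ^ n = 0 := by
    intro w hw hw1
    rw [geom_sum_eq (fun h => hw1 (Units.ext h)), ← Units.val_pow_eq_pow_val, hzN w hw]
    simp
  have hsep : ∀ (s : ℕ), (s = 1 ∨ 2 ≤ s ∧ 2 * s ≤ q) → ∀ kl, z (0, 1) ^ s = z kl →
      s = 1 ∧ kl = (0, 1) := by
    rintro s hs ⟨k, l⟩ h
    simp only [z] at h
    rw [← zpow_natCast, ← _root_.zpow_mul, zpow_eq_zpow_iff_modEq, hord, Int.modEq_iff_dvd] at h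
    have hNc : (N : ℤ) = (q : ℤ) ^ 2 - q + 1 := by
      rw [hN, Nat.cast_add, Nat.cast_sub (Nat.le_self_pow two_ne_zero q)]; push_cast; ring
    rw [hNc] at h
    obtain ⟨h1, h2, h3⟩ := exp_sep hq hq5 hs k l (by
      have e : -((s : ℤ) * (1 - (q : ℤ) ^ 2) -
          (((q : ℤ) ^ 2) ^ (k : ℕ) - ((q : ℤ) ^ 2) ^ (l : ℕ))) =
          (Q : ℤ) ^ (k : ℕ) - (Q : ℤ) ^ (l : ℕ) -
            ((Q : ℤ) ^ ((0 : Fin 3) : ℕ) - (Q : ℤ) ^ ((1 : Fin 3) : ℕ)) * (s : ℤ) := by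
        simp [hQ]; ring
      exact Int.dvd_neg.mp (e ▸ h))
    exact ⟨h1, by rw [h2, h3]⟩
  have hrinj : ∀ kl, z kl ^ r = z₀ → kl = (0, 1) := by
    intro kl h
    have h' : ((z kl : Kˣ) : K) ^ p ^ m = ((z (0, 1) : Kˣ) : K) ^ p ^ m := by
      rw [← hm, ← Units.val_pow_eq_pow_val, ← Units.val_pow_eq_pow_val, h, hz₀]
    have h'' : z kl = z (0, 1) := Units.ext (iterateFrobenius_inj K p m (by
      simpa only [iterateFrobenius_def] using h'))
    exact (hsep 1 (Or.inl rfl) kl (by rw [pow_one, h''])).2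
  have hne₀ : ∀ kl, z kl ≠ z₀ := fun kl h => by
    have := (hsep r (Or.inr ⟨hr2, h2r⟩) kl (by rw [h, hz₀])).1
    omega
  have hsum := Finset.sum_congr (s₁ := Finset.range N) rfl
    fun n (_ : n ∈ Finset.range N) => congrArg (fun y => y * (((z₀⁻¹ : Kˣ) : K) ^ n)) (heq n)
  simp only [Finset.sum_mul, mul_assoc, ← mul_pow] at hsum
  rw [Finset.sum_comm] at hsum
  conv_rhs at hsum => rw [Finset.sum_comm]
  simp only [← Finset.mul_sum, ← Units.val_pow_eq_pow_val, ← Units.val_mul] at hsum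
  simp only [Units.val_pow_eq_pow_val] at hsum
  have hinz : ∀ kl (s : ℕ), ∃ e : ℤ, z kl ^ s * z₀⁻¹ = ζ ^ e := fun kl s =>
    ⟨((Q : ℤ) ^ (kl.1 : ℕ) - (Q : ℤ) ^ (kl.2 : ℕ)) * (s : ℤ) +
      -(((Q : ℤ) ^ ((0 : Fin 3) : ℕ) - (Q : ℤ) ^ ((1 : Fin 3) : ℕ)) * (r : ℤ)), by
      simp only [z, hz₀, ← zpow_natCast, ← _root_.zpow_mul, ← _root_.zpow_neg, ← _root_.zpow_add]⟩
  have hR : ∀ kl, ∑ n ∈ Finset.range N, ((z kl * z₀⁻¹ : Kˣ) : K) ^ n = 0 := fun kl =>
    hgeom _ (by simpa using hinz kl 1) (fun h => hne₀ kl (mul_inv_eq_one.mp h))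
  have hL : ∀ kl, kl ≠ ((0 : Fin 3), (1 : Fin 3)) →
      ∑ n ∈ Finset.range N, ((z kl ^ r * z₀⁻¹ : Kˣ) : K) ^ n = 0 := fun kl hkl =>
    hgeom _ (hinz kl r) (fun h => hkl (hrinj kl (mul_inv_eq_one.mp h)))
  simp only [hR, mul_zero, Finset.sum_const_zero] at hsum
  rw [Fintype.sum_eq_single ((0 : Fin 3), (1 : Fin 3)) fun kl hkl => by rw [hL kl hkl, mul_zero]] at hsum
  have hNK : ((N : ℕ) : K) = 1 := by
    have hq0 : ((q : ℕ) : K) = 0 := by
      rw [CharP.cast_eq_zero_iff K p, hk]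
      exact dvd_pow_self p (by rintro rfl; rw [pow_zero] at hk; omega)
    rw [hN, Nat.cast_add, Nat.cast_sub (Nat.le_self_pow two_ne_zero q), Nat.cast_pow, hq0]
    simp
  rw [← hz₀, mul_inv_cancel] at hsum
  simp only [Units.val_one, one_pow, Finset.sum_const, Finset.card_range, nsmul_eq_mul, mul_one,
    hNK] at hsum
  refine absurd hsum (pow_ne_zero r (mul_ne_zero ?_ ?_))
  · exact (map_ne_zero ι').mpr (mul_ne_zero hc0 hc0)
  · exact mul_ne_zero (pow_ne_zero _ ha0) (pow_ne_zero _ ha0)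

end Cfsg.Agent.SU3Geo98.SingerT
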