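import Cfsg.Agent.SU3Geo98.SingerT.Nine
import Cfsg.Agent.SU3Geo98.SingerT.Trace
import Cfsg.Agent.ZStar.Main

/-!
Even characteristic: a transvection group of order two does not occur next to a Singer element
(helper66).
-/

set_option autoImplicit false
set_option linter.unusedSectionVars false

namespace Cfsg.Agent.SU3Geo98.SingerT

open Matrix Cfsg.Agent.MaxSub Cfsg.Agent.HermStab

variable {ι : Type} [Fintype ι] [DecidableEq ι] {F : Type*} [Field F] [Fintype F]

local notation:73 g:74 " ◆ " x:73 => (Units.val g) *ᵥ x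

variable {σ : F ≃+* F} {f : (ι → F) → (ι → F) → F}

/-- In characteristic two the involutions of the unitary group in dimension three are transvections. -/
theorem exists_ut_of_involution (hf : Geo.IsUnitaryForm σ f) (hn : Fintype.card ι = 3)
    (h2 : (2 : F) = 0) {d : GL ι F} (hd : d ∈ isom f) (hd1 : d ≠ 1) (hd2 : d * d = 1) :
    ∃ (v : ι → F) (c : F), v ≠ 0 ∧ f v v = 0 ∧ c ≠ 0 ∧ c + σ c = 0 ∧ d = ut f v c := by
  have hneg : ∀ y : ι → F, y + y = 0 := fun y => by
    rw [← two_smul F y, h2, zero_smul]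
  let L : (ι → F) →ₗ[F] (ι → F) := Matrix.mulVecLin ((d : Matrix ι ι F) - 1)
  have hL : ∀ x, L x = d ◆ x - x := fun x => by simp [L, sub_mulVec]
  have hLL : ∀ x, L (L x) = 0 := fun x => by
    rw [hL, hL, mulVec_sub, mulVec_mulVec, ← Units.val_mul, hd2, Units.val_one, one_mulVec,
      show x - d ◆ x - (d ◆ x - x) = (x + x) - (d ◆ x + d ◆ x) by abel, hneg, hneg, sub_self]
  have hle : LinearMap.range L ≤ LinearMap.ker L := by
    rintro _ ⟨x, rfl⟩
    exact hLL x
  obtain ⟨x₀, hx₀⟩ : ∃ x, L x ≠ 0 := by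
    by_contra h
    simp only [not_exists, not_not, hL, sub_eq_zero] at h
    exact hd1 (gl_ext fun x => by rw [h, Units.val_one, one_mulVec])
  set v := L x₀ with hv
  have hrange : ∀ x, ∃ r : F, L x = r • v := by
    have h1 := LinearMap.finrank_range_add_finrank_ker L
    rw [Module.finrank_pi, hn] at h1
    have h3 := Submodule.finrank_mono hle
    have hsp : Submodule.span F ({v} : Set (ι → F)) ≤ LinearMap.range L := by
      rw [Submodule.span_singleton_le_iff_mem]; exact ⟨x₀, rfl⟩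
    have heq : Submodule.span F ({v} : Set (ι → F)) = LinearMap.range L := by
      refine Submodule.eq_of_le_of_finrank_le hsp ?_
      rw [finrank_span_singleton hx₀]
      omega
    intro x
    have : L x ∈ Submodule.span F ({v} : Set (ι → F)) := heq ▸ ⟨x, rfl⟩
    obtain ⟨r, hr⟩ := Submodule.mem_span_singleton.mp this
    exact ⟨r, hr.symm⟩
  choose φ hφ using hrange
  have hdx : ∀ x, d ◆ x = x + φ x • v := fun x => by rw [← hφ, hL]; abel
  have hdv : d ◆ v = v := sub_eq_zero.mp (by rw [← hL]; exact hLL x₀)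
  have hφ₀ : φ x₀ ≠ 0 := fun h => hx₀ (by rw [hv, hφ, h, zero_smul])
  have hvv : f v v = 0 := by
    have h := mem_isom.mp hd x₀ v
    rw [hdv, hdx, hf.add_left, hf.smul_left, add_eq_left] at h
    exact (mul_eq_zero.mp h).resolve_left hφ₀
  have hrel : ∀ x y, φ x * f v y + σ (φ y) * f x v = 0 := fun x y => by
    have h := mem_isom.mp hd x y
    rw [hdx, hdx, hf.add_left, hf.smul_left, hadd_right hf, hadd_right hf, hsmul_right hf,
      hsmul_right hf, hvv] at h
    linear_combination h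
  obtain ⟨y₀, hy₀, -⟩ := exists_dual hf (U := ⊥) (a := v) (by simpa using hx₀)
  have hy₀' : f v y₀ = 1 := by rw [hf.herm, hy₀, map_one]
  have hs : φ y₀ + σ (φ y₀) = 0 := by
    have := hrel y₀ y₀
    rw [hy₀, hy₀', mul_one, mul_one] at this
    exact this
  have hφx : ∀ x, φ x = φ y₀ * f x v := fun x => by
    have := hrel x y₀
    rw [hy₀', mul_one] at this
    linear_combination this - f x v * hs
  have hd' : d = ut f v (φ y₀) := gl_ext fun x => by rw [ut_mulVec hf hvv, hdx, hφx x]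
  refine ⟨v, φ y₀, hx₀, hvv, fun h => hd1 ?_, hs, hd'⟩
  rw [hd', h, ut_zero hf]

variable {q : ℕ} (hF : Fintype.card F = q ^ 2) (hq : 4 ≤ q)
variable {K : Subalgebra F (Matrix ι ι F)} (hn : Fintype.card ι = 3) (hK : Geo.IsFieldSubalgebra 3 K)

include hn hK in
/-- The algebra generated by a non-scalar element of the field is the field. -/
theorem adjoin_eq {z : GL ι F} (hzK : (z : Matrix ι ι F) ∈ K)
    (hns : ∀ a : F, (z : Matrix ι ι F) ≠ a • 1) :
    Algebra.adjoin F ({(z : Matrix ι ι F)} : Set (Matrix ι ι F)) = K := by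
  letI : Field K := (isField_of hn hK).toField
  haveI := Subalgebra.isSimpleOrder_of_finrank_prime F K (hK.finrank_eq ▸ Nat.prime_three)
  have hle : Algebra.adjoin F ({(z : Matrix ι ι F)} : Set (Matrix ι ι F)) ≤ K :=
    Algebra.adjoin_le (by simpa using hzK)
  refine le_antisymm hle fun x hx => ?_
  let S : Subalgebra F K := (Algebra.adjoin F ({(z : Matrix ι ι F)} : Set (Matrix ι ι F))).comap K.val
  have hS : S = ⊤ := by
    refine (eq_bot_or_eq_top S).resolve_left fun h => ?_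
    have hz : (⟨_, hzK⟩ : K) ∈ S := Algebra.subset_adjoin rfl
    rw [h, Algebra.mem_bot] at hz
    obtain ⟨a, ha⟩ := hz
    exact hns a (by rw [← Algebra.algebraMap_eq_smul_one]; exact (congrArg Subtype.val ha).symm)
  exact (hS ▸ Algebra.mem_top : (⟨x, hx⟩ : K) ∈ S)

include hn hK in
/-- The centraliser of a non-scalar element of the field is the field. -/
theorem mem_of_commute {z : GL ι F} (hzK : (z : Matrix ι ι F) ∈ K)
    (hns : ∀ a : F, (z : Matrix ι ι F) ≠ a • 1) {X : Matrix ι ι F}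
    (hX : X * z = (z : Matrix ι ι F) * X) : X ∈ K := by
  haveI : Nonempty ι := Fintype.card_pos_iff.mp (by omega)
  have hcomm : ∀ y ∈ K, X * y = y * X := by
    intro y hy
    rw [← adjoin_eq hn hK hzK hns] at hy
    induction hy using Algebra.adjoin_induction with
    | mem y hy => rw [Set.mem_singleton_iff.mp hy]; exact hX
    | algebraMap r => exact (Algebra.commutes r X).symm
    | add y y' _ _ h h' => rw [mul_add, add_mul, h, h']
    | mul y y' _ _ h h' => rw [← mul_assoc, h, mul_assoc, h', mul_assoc]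
  obtain ⟨i₀⟩ := ‹Nonempty ι›
  set v₀ : ι → F := Pi.single i₀ 1
  have hv₀ : v₀ ≠ 0 := fun h => one_ne_zero (α := F) (by simpa [v₀] using congrFun h i₀)
  obtain ⟨x, hx, hxv⟩ := exists_mulVec_eq hn hK hv₀ (X *ᵥ v₀)
  have : X = x := by
    refine Matrix.ext_iff_mulVec.mpr fun y => ?_
    obtain ⟨k, hk, rfl⟩ := exists_mulVec_eq hn hK hv₀ y
    rw [mulVec_mulVec, hcomm k hk, ← mulVec_mulVec, ← hxv, mulVec_mulVec, hK.comm k hk x hx,
      mulVec_mulVec]
  rw [this]; exact hx

include hn hK in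
/-- In characteristic two no involution normalises the field. -/
theorem no_involution (h2 : (2 : F) = 0) {u z : GL ι F} (hu1 : u ≠ 1) (hu2 : u * u = 1)
    (hzK : (z : Matrix ι ι F) ∈ K) (hns : ∀ a : F, (z : Matrix ι ι F) ≠ a • 1)
    (hconj : ((u * z * u⁻¹ : GL ι F) : Matrix ι ι F) ∈ K) : False := by
  haveI : Nonempty ι := Fintype.card_pos_iff.mp (by omega)
  have hcK : ∀ y ∈ K, (u : Matrix ι ι F) * y * (u : Matrix ι ι F) ∈ K := by
    have hui : (u⁻¹ : GL ι F) = u := inv_eq_of_mul_eq_one_right hu2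
    have huu : (u : Matrix ι ι F) * u = 1 := by rw [← Units.val_mul, hu2, Units.val_one]
    intro y hy
    rw [← adjoin_eq hn hK hzK hns] at hy
    induction hy using Algebra.adjoin_induction with
    | mem y hy =>
      rw [Set.mem_singleton_iff.mp hy]
      rwa [Units.val_mul, Units.val_mul, hui] at hconj
    | algebraMap r =>
      rw [← Algebra.commutes, mul_assoc, huu, mul_one]
      exact K.algebraMap_mem r
    | add y y' _ _ h h' => rw [mul_add, add_mul]; exact K.add_mem h h'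
    | mul y y' _ _ h h' =>
      have e : (u : Matrix ι ι F) * (y * y') * u = ((u : Matrix ι ι F) * y * u) * (u * y' * u) := by
        simp only [mul_assoc]
        rw [← mul_assoc (u : Matrix ι ι F) u, huu, one_mul]
      rw [e]
      exact K.mul_mem h h'
  have huu : (u : Matrix ι ι F) * u = 1 := by rw [← Units.val_mul, hu2, Units.val_one]
  letI : Field K := (isField_of hn hK).toField
  haveI : Finite K := Finite.of_injective (fun x : K => (x : Matrix ι ι F)) Subtype.coe_injective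
  let ψ₀ : K →ₐ[F] K :=
    { toFun := fun y => ⟨_, hcK _ y.2⟩
      map_one' := Subtype.ext (by simp [huu])
      map_zero' := Subtype.ext (by simp)
      map_add' := fun a b => Subtype.ext (by simp [mul_add, add_mul])
      map_mul' := fun a b => Subtype.ext (by
        show (u : Matrix ι ι F) * ((a : Matrix ι ι F) * b) * u = (u * a * u) * (u * b * u)
        simp only [mul_assoc]
        rw [← mul_assoc (u : Matrix ι ι F) u, huu, one_mul])
      commutes' := fun r => Subtype.ext (by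
        show (u : Matrix ι ι F) * algebraMap F _ r * u = _
        rw [← Algebra.commutes, mul_assoc, huu, mul_one]; rfl) }
  have hψψ : ∀ y, ψ₀ (ψ₀ y) = y := fun y => Subtype.ext (by
    show (u : Matrix ι ι F) * ((u : Matrix ι ι F) * y * u) * u = y
    simp only [mul_assoc]
    rw [huu, mul_one, ← mul_assoc, huu, one_mul])
  let ψ : K ≃ₐ[F] K := AlgEquiv.ofAlgHom ψ₀ ψ₀ (AlgHom.ext hψψ) (AlgHom.ext hψψ)
  have h3 : Nat.card (K ≃ₐ[F] K) = 3 := by rw [IsGalois.card_aut_eq_finrank, hK.finrank_eq]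
  have hψ : ψ = 1 := by
    rw [← orderOf_eq_one_iff]
    have h1 : orderOf ψ ∣ 2 := orderOf_dvd_of_pow_eq_one (AlgEquiv.ext fun y => by
      rw [pow_two]; exact hψψ y)
    have h1' : orderOf ψ ∣ 3 := h3 ▸ orderOf_dvd_natCard ψ
    exact Nat.eq_one_of_dvd_coprimes (by norm_num) h1 h1'
  have hXz : (u : Matrix ι ι F) * z = (z : Matrix ι ι F) * u := by
    have h : ψ ⟨_, hzK⟩ = ⟨_, hzK⟩ := by rw [hψ]; rfl
    have h' : (u : Matrix ι ι F) * z * u = z := congrArg Subtype.val h
    calc (u : Matrix ι ι F) * z = u * z * (u * u) := by rw [huu, mul_one]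
      _ = z * u := by rw [← mul_assoc, h']
  have huK := mem_of_commute hn hK hzK hns hXz
  have : ((⟨_, huK⟩ : K) - 1) ^ 2 = 0 := by
    have h2K : (2 : K) = 0 := by rw [← map_ofNat (algebraMap F K), h2, map_zero]
    have hsq : (⟨_, huK⟩ : K) * ⟨_, huK⟩ = 1 := Subtype.ext huu
    linear_combination hsq - ((⟨_, huK⟩ : K) - 1) * h2K
  exact hu1 (Units.ext (congrArg Subtype.val (sub_eq_zero.mp (sq_eq_zero_iff.mp this))))

variable (hf : Geo.IsUnitaryForm σ f) {M : Subgroup (GL ι F)} (hMG : M ≤ su f)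
variable {g : GL ι F} (hg : g ∈ M) (hgK : (g : Matrix ι ι F) ∈ K)
variable (hgo : orderOf g = q ^ 2 - q + 1)
include hF hq hn hK hf hMG hg hgK hgo

/-- In characteristic two the transvection group at a centre has order at least four. -/
theorem exists_second (h2 : (2 : F) = 0) {v : ι → F} (hv0 : v ≠ 0) (hv : f v v = 0) {c : F}
    (hc0 : c ≠ 0) (hc : c + σ c = 0) (hM' : ut f v c ∈ M) :
    ∃ c', c' ≠ 0 ∧ c' ≠ c ∧ c' + σ c' = 0 ∧ ut f v c' ∈ M := by
  classical
  by_contra hcon
  simp only [not_exists, not_and] at hcon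
  haveI : Nonempty ι := Fintype.card_pos_iff.mp (by omega)
  set d₀ : M := ⟨ut f v c, hM'⟩ with hd₀
  obtain ⟨y₀, hy₀, -⟩ := exists_dual hf (U := ⊥) (a := v) (by simpa using hv0)
  -- commuting with `d₀` means fixing the line of `v`
  have hline : ∀ x : M, Commute x d₀ → ∃ a : F, (x : GL ι F) ◆ v = a • v := by
    intro x hx
    have hki := (hMG x.2).1
    have e : ut f ((x : GL ι F) ◆ v) c = ut f v c := by
      rw [← ut_conj hf hv c hki]
      have := congrArg Subtype.val hx.eq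
      simp only [Subgroup.coe_mul, hd₀] at this
      rw [this, mul_inv_cancel_right]
    have hw : f ((x : GL ι F) ◆ v) ((x : GL ι F) ◆ v) = 0 := by rw [mem_isom.mp hki, hv]
    have h := congrArg (fun k : GL ι F => k ◆ y₀) e
    simp only [ut_mulVec hf hv, ut_mulVec hf hw, hy₀, mul_one, add_right_inj] at h
    by_cases hz : f y₀ ((x : GL ι F) ◆ v) = 0
    · rw [hz, mul_zero, zero_smul] at h
      exact absurd h.symm (smul_ne_zero hc0 hv0)
    · refine ⟨(c * f y₀ ((x : GL ι F) ◆ v))⁻¹ * c, ?_⟩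
      rw [← smul_smul, ← h, smul_smul, inv_mul_cancel₀ (mul_ne_zero hc0 hz), one_smul]
  -- the only involution commuting with `d₀`
  have honly : ∀ z : M, z ≠ 1 → z * z = 1 → Commute z d₀ → z = d₀ := by
    intro z hz1 hz2 hzc
    obtain ⟨a, ha⟩ := hline z hzc
    obtain ⟨y, e, hy0, hyy, he0, he, hze⟩ := exists_ut_of_involution hf hn h2 (d := (z : GL ι F))
      (hMG z.2).1 (fun h => hz1 (Subtype.ext h)) (congrArg Subtype.val hz2)
    rw [hze, ut_mulVec hf hyy] at ha
    have hmem : y ∈ Submodule.span F ({v} : Set (ι → F)) := by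
      by_cases hvy : f v y = 0
      · exact mem_span_of_perp hf hn hyy hv hvy hv0
      · refine (Submodule.smul_mem_iff _ (mul_ne_zero he0 hvy)).mp ?_
        rw [eq_sub_of_add_eq' ha]
        exact sub_mem (Submodule.smul_mem _ _ (Submodule.mem_span_singleton_self v))
          (Submodule.mem_span_singleton_self v)
    obtain ⟨r, rfl⟩ := Submodule.mem_span_singleton.mp hmem
    rw [ut_smul hf hv] at hze
    have hskew : e * σ r * r + σ (e * σ r * r) = 0 := by
      rw [map_mul, map_mul, hf.involutive]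
      linear_combination σ r * r * he
    have hr0 : r ≠ 0 := fun h => hy0 (by rw [h, zero_smul])
    refine Subtype.ext ?_
    rw [hze, hd₀]
    by_contra hne
    exact hcon _ (mul_ne_zero (mul_ne_zero he0 ((map_ne_zero σ).mpr hr0)) hr0)
      (fun h => hne (by rw [h])) hskew (hze ▸ z.2)
  have hd₀2 : d₀ * d₀ = 1 := Subtype.ext (by
    show ut f v c * ut f v c = 1
    rw [ut_mul hf hv, ← two_mul, h2, zero_mul, ut_zero hf])
  have hd₀1 : d₀ ≠ 1 := fun h => by
    have h' := congrArg (fun k : GL ι F => k ◆ y₀) (congrArg Subtype.val h)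
    simp only [hd₀, ut_mulVec hf hv, hy₀, mul_one, Subgroup.coe_one, Units.val_one, one_mulVec,
      add_eq_left] at h'
    exact smul_ne_zero hc0 hv0 h'
  have hord : orderOf d₀ = 2 := orderOf_eq_prime (by rw [pow_two]; exact hd₀2) hd₀1
  have hinv : d₀⁻¹ = d₀ := inv_eq_of_mul_eq_one_right hd₀2
  have hodd : ZStar.OddComm d₀ := by
    intro x
    set d₁ := x * d₀⁻¹ * x⁻¹ with hd₁
    have e0 : d₀ * x * d₀⁻¹ * x⁻¹ = d₀ * d₁ := by rw [hd₁]; group
    rw [e0]
    have hd₁2 : d₁ * d₁ = 1 := by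
      rw [hd₁, hinv, show x * d₀ * x⁻¹ * (x * d₀ * x⁻¹) = x * (d₀ * d₀) * x⁻¹ by group, hd₀2]
      group
    rcases Nat.even_or_odd (orderOf (d₀ * d₁)) with ⟨j, hj⟩ | h
    · exfalso
      have hpos := orderOf_pos (d₀ * d₁)
      set z := (d₀ * d₁) ^ j with hz
      have hz1 : z ≠ 1 := pow_ne_one_of_lt_orderOf (by omega) (by omega)
      have hz2 : z * z = 1 := by rw [hz, ← pow_add, ← hj, pow_orderOf_eq_one]
      have hzi : z⁻¹ = z := inv_eq_of_mul_eq_one_right hz2
      have hd₁i : d₁⁻¹ = d₁ := inv_eq_of_mul_eq_one_right hd₁2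
      have e1 : d₀ * z * d₀⁻¹ = z := by
        rw [hz, ← conj_pow, show d₀ * (d₀ * d₁) * d₀⁻¹ = (d₀ * d₁)⁻¹ by
          rw [_root_.mul_inv_rev, hd₁i, hinv, ← mul_assoc d₀ d₀, hd₀2, one_mul], inv_pow, ← hz, hzi]
      have e2 : d₁ * z * d₁⁻¹ = z := by
        rw [hz, ← conj_pow, show d₁ * (d₀ * d₁) * d₁⁻¹ = (d₀ * d₁)⁻¹ by
          rw [_root_.mul_inv_rev d₀ d₁, hd₁i, hinv, mul_assoc d₁ (d₀ * d₁) d₁, mul_assoc d₀ d₁ d₁, hd₁2, mul_one], inv_pow, ← hz, hzi]
      have c1 : Commute z d₀ := (mul_inv_eq_iff_eq_mul.mp e1).symm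
      have h0 := honly z hz1 hz2 c1
      -- transport to `d₁`
      have hx : Commute (x⁻¹ * z * x) d₀ := by
        have c2 : z * d₁ = d₁ * z := (mul_inv_eq_iff_eq_mul.mp e2).symm
        rw [hd₁, hinv] at c2
        show x⁻¹ * z * x * d₀ = d₀ * (x⁻¹ * z * x)
        calc x⁻¹ * z * x * d₀ = x⁻¹ * (z * (x * d₀ * x⁻¹)) * x := by group
          _ = x⁻¹ * ((x * d₀ * x⁻¹) * z) * x := by rw [c2]
          _ = d₀ * (x⁻¹ * z * x) := by group
      have h1 := honly _ (fun h => hz1 (by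
          have : z = x * (x⁻¹ * z * x) * x⁻¹ := by group
          rw [this, h]; group))
        (by rw [show x⁻¹ * z * x * (x⁻¹ * z * x) = x⁻¹ * (z * z) * x by group, hz2]; group) hx
      have hzd₁ : z = d₁ := by
        rw [hd₁, hinv, ← h1]; group
      have : d₀ * d₁ = 1 := by rw [← hzd₁, h0, hd₀2]
      rw [this, orderOf_one] at hj
      omega
    · exact h
  obtain ⟨Nn, hNn, hNodd, hcomm⟩ := ZStar.zStar hord hodd
  -- a prime of the torus
  obtain ⟨s, hs, hsN, hs3⟩ : ∃ s, s.Prime ∧ s ∣ q ^ 2 - q + 1 ∧ s ≠ 3 := by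
    by_contra h
    simp only [not_exists, not_and, not_not] at h
    have hN0 : q ^ 2 - q + 1 ≠ 0 := by omega
    have h3 := Nat.eq_prime_pow_of_unique_prime_dvd hN0 fun {p} hp hd => h p hp hd
    have h9 : ¬ 9 ∣ q ^ 2 - q + 1 := by
      intro h9
      obtain ⟨r, hr⟩ := h9
      have hz : ((q : ℤ) ^ 2 - q + 1) = 9 * r := by
        have hq2 : q ≤ q ^ 2 := Nat.le_self_pow two_ne_zero q
        have := congrArg (Nat.cast : ℕ → ℤ) hr
        rwa [Nat.cast_add, Nat.cast_sub hq2, Nat.cast_pow, Nat.cast_one, Nat.cast_mul] at this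
      have h4 : (2 * (q : ℤ) - 1) ^ 2 + 3 = 36 * r := by linear_combination 4 * hz
      have h5 : (3 : ℤ) ∣ 2 * (q : ℤ) - 1 :=
        Int.prime_three.dvd_of_dvd_pow (n := 2) ⟨12 * r - 1, by linear_combination h4⟩
      obtain ⟨e, he⟩ := h5
      rw [he, mul_pow] at h4
      omega
    have hbig : 9 ≤ q ^ 2 - q + 1 := by
      have : 4 * q ≤ q ^ 2 := by rw [pow_two]; exact Nat.mul_le_mul_right q hq
      omega
    rcases le_or_gt 2 (q ^ 2 - q + 1).primeFactorsList.length with hl | hl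
    · exact h9 (by
        rw [h3]
        exact (pow_dvd_pow 3 hl : (3 : ℕ) ^ 2 ∣ _))
    · interval_cases hh : (q ^ 2 - q + 1).primeFactorsList.length <;> simp at h3 <;> omega
  haveI := Fact.mk hs
  -- `s` is prime to the scalars
  have hscal : ∀ a : F, a ^ s = 1 → a = 1 := by
    intro a ha
    by_contra ha1
    have ho : orderOf a = s := orderOf_eq_prime ha ha1
    have ha0 : a ≠ 0 := fun h => by rw [h, zero_pow hs.ne_zero] at ha; exact zero_ne_one ha
    have h1 : s ∣ q ^ 2 - 1 := by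
      rw [← ho, ← hF]
      exact orderOf_dvd_of_pow_eq_one (FiniteField.pow_card_sub_one_eq_one a ha0)
    have hq2 : q ≤ q ^ 2 := Nat.le_self_pow two_ne_zero q
    have h2' := Nat.dvd_sub h1 hsN
    rw [show q ^ 2 - 1 - (q ^ 2 - q + 1) = q - 2 by omega] at h2'
    have h3' : (s : ℤ) ∣ 3 := by
      have a1 : (s : ℤ) ∣ (q : ℤ) - 2 := by
        have := Int.natCast_dvd_natCast.mpr h2'
        rwa [Nat.cast_sub (by omega)] at this
      have a2 : (s : ℤ) ∣ (q : ℤ) ^ 2 - q + 1 := by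
        have := Int.natCast_dvd_natCast.mpr hsN
        rwa [Nat.cast_add, Nat.cast_sub hq2, Nat.cast_pow, Nat.cast_one] at this
      have := dvd_sub a2 (dvd_mul_of_dvd_left a1 ((q : ℤ) + 1))
      rwa [show (q : ℤ) ^ 2 - q + 1 - ((q : ℤ) - 2) * ((q : ℤ) + 1) = 3 by ring] at this
    exact hs3 ((Nat.prime_dvd_prime_iff_eq hs Nat.prime_three).mp (Int.natCast_dvd_natCast.mp h3'))
  have hnons : ∀ y : GL ι F, y ≠ 1 → (∃ k : ℕ, y ^ s ^ k = 1) →
      ∀ a : F, (y : Matrix ι ι F) ≠ a • 1 := by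
    rintro y hy ⟨k, hk⟩ a he
    have h1 : (a • (1 : Matrix ι ι F)) ^ s ^ k = 1 := by
      rw [← he, ← Units.val_pow_eq_pow_val, hk, Units.val_one]
    rw [smul_pow, one_pow] at h1
    obtain ⟨i⟩ := ‹Nonempty ι›
    have h2' : a ^ s ^ k = 1 := by simpa using congrFun (congrFun h1 i) i
    have hall : ∀ k, ∀ b : F, b ^ s ^ k = 1 → b = 1 := by
      intro k
      induction k with
      | zero => intro b hb; simpa using hb
      | succ k ih =>
        intro b hb
        rw [pow_succ', pow_mul] at hb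
        exact hscal b (ih _ hb)
    refine hy (Units.ext ?_)
    rw [he, hall k a h2', one_smul, Units.val_one]
  -- an element of order `s`
  let gM : M := ⟨g, hg⟩
  have hgMo : orderOf gM = q ^ 2 - q + 1 := by rw [← hgo, Subgroup.orderOf_mk]
  set h := gM ^ ((q ^ 2 - q + 1) / s) with hh
  have hho : orderOf h = s := by
    rw [hh, orderOf_pow' _ (Nat.div_pos (Nat.le_of_dvd (by omega) hsN) hs.pos).ne', hgMo,
      Nat.gcd_eq_right (Nat.div_dvd_of_dvd hsN), Nat.div_div_self hsN (by omega)]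
  have hhK : ((h : GL ι F) : Matrix ι ι F) ∈ K := by
    rw [hh, Subgroup.coe_pow, Units.val_pow_eq_pow_val]; exact pow_mem hgK _
  have hsg : ∀ y : M, orderOf y = s → (y : GL ι F) ≠ 1 ∧ ∃ k : ℕ, (y : GL ι F) ^ s ^ k = 1 := by
    intro y hy
    refine ⟨fun e => hs.ne_one (by rw [← hy, show y = 1 from Subtype.ext e, orderOf_one]), 1, ?_⟩
    rw [pow_one, ← Subgroup.coe_pow, ← hy, pow_orderOf_eq_one, Subgroup.coe_one]
  -- a Sylow subgroup inside the field
  obtain ⟨S, hS⟩ := (IsPGroup.of_card (n := 1)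
    (by rw [Nat.card_zpowers, hho, pow_one]) : IsPGroup s (Subgroup.zpowers h)).exists_le_sylow
  have hhS : h ∈ S := hS (Subgroup.mem_zpowers h)
  have hSK : ∀ y ∈ S, ((y : GL ι F) : Matrix ι ι F) ∈ K := by
    haveI : Nontrivial S := ⟨⟨h, hhS⟩, 1, fun e => hs.ne_one (by
      rw [← hho, show h = 1 from congrArg Subtype.val e, orderOf_one])⟩
    haveI := S.2.center_nontrivial
    obtain ⟨⟨⟨z, hzS⟩, hzc⟩, hz1⟩ := exists_ne (1 : Subgroup.center S)
    obtain ⟨k, hk⟩ := S.2 ⟨z, hzS⟩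
    have hz' : (z : GL ι F) ≠ 1 := fun e => hz1 (Subtype.ext (Subtype.ext (Subtype.ext e)))
    have hzk : (z : GL ι F) ^ s ^ k = 1 := by
      rw [← Subgroup.coe_pow, show z ^ s ^ k = 1 from congrArg Subtype.val hk, Subgroup.coe_one]
    have hcomm' : ∀ y ∈ S, ((y : GL ι F) : Matrix ι ι F) * (z : GL ι F) =
        ((z : GL ι F) : Matrix ι ι F) * (y : GL ι F) := fun y hy => by
      have := congrArg (fun w : S => (((w : M) : GL ι F) : Matrix ι ι F))
        (Subgroup.mem_center_iff.mp hzc ⟨y, hy⟩)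
      simpa using this
    have hh1 := hsg h hho
    have hzK : ((z : GL ι F) : Matrix ι ι F) ∈ K :=
      mem_of_commute hn hK hhK (hnons _ hh1.1 hh1.2) (hcomm' h hhS).symm
    exact fun y hy => mem_of_commute hn hK hzK (hnons _ hz' ⟨k, hzk⟩) (hcomm' y hy)
  have hconjK : ∀ (P : Subgroup M), IsPGroup s P → ∃ k : M, ∀ y ∈ P,
      k⁻¹ * y * k ∈ S := by
    intro P hP
    obtain ⟨S', hS'⟩ := hP.exists_le_sylow
    obtain ⟨k, rfl⟩ := MulAction.exists_smul_eq M S S'
    refine ⟨k, fun y hy => ?_⟩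
    have hy' := hS' hy
    rw [Sylow.coe_subgroup_smul, Subgroup.mem_pointwise_smul_iff_inv_smul_mem] at hy'
    have h' : k⁻¹ * y * k ∈ (S : Subgroup M) := by simpa [MulAut.smul_def, mul_assoc] using hy'
    exact h'
  -- elements fixing the line of `v` have order prime to `s`
  have hns : ∀ x : M, Commute x d₀ → ¬ s ∣ orderOf x := by
    intro x hx hdvd
    set y := x ^ (orderOf x / s) with hy
    have hyo : orderOf y = s := by
      rw [hy, orderOf_pow' _ (Nat.div_pos (Nat.le_of_dvd (orderOf_pos x) hdvd) hs.pos).ne',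
        Nat.gcd_eq_right (Nat.div_dvd_of_dvd hdvd), Nat.div_div_self hdvd (orderOf_pos x).ne']
    obtain ⟨a, ha⟩ := hline y (hx.pow_left _)
    obtain ⟨k, hk⟩ := hconjK (Subgroup.zpowers y)
      (IsPGroup.of_card (n := 1) (by rw [Nat.card_zpowers, hyo, pow_one]))
    set y' := k⁻¹ * y * k with hy'
    have hy'S := hk y (Subgroup.mem_zpowers y)
    have hy'o : orderOf y' = s := by
      rw [hy', ← hyo, show k⁻¹ * y * k = MulAut.conj k⁻¹ y by simp, MulEquiv.orderOf_eq]
    have hns' := hnons _ (hsg y' hy'o).1 (hsg y' hy'o).2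
    set w := ((k⁻¹ : M) : GL ι F) ◆ v with hw
    have hw0 : w ≠ 0 := mulVec_ne_zero _ hv0
    have hy'w : ((y' : M) : GL ι F) ◆ w = a • w := by
      rw [hw, hy', Subgroup.coe_mul, Subgroup.coe_mul, Units.val_mul, Units.val_mul,
        ← mulVec_mulVec, ← mulVec_mulVec, Subgroup.coe_inv, mulVec_inv_mulVec, ha, mulVec_smul]
    refine hns' a ?_
    by_contra hne
    have hmemK : ((y' : GL ι F) : Matrix ι ι F) - a • 1 ∈ K :=
      K.sub_mem (hSK _ hy'S) (K.smul_mem K.one_mem a)
    obtain ⟨z, hz, hz1⟩ := hK.inv _ hmemK (sub_ne_zero.mpr hne)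
    refine hw0 ?_
    rw [← one_mulVec w, ← hz1, hK.comm _ hmemK _ hz, ← mulVec_mulVec, sub_mulVec, hy'w,
      smul_mulVec, one_mulVec, sub_self, mulVec_zero]
  -- `h` lies in the odd core
  haveI := hNn
  have hhN : h ∈ Nn := by
    by_contra hhN
    haveI : Fact (Nat.Prime 2) := ⟨Nat.prime_two⟩
    -- conjugate `h d₀ h⁻¹` back to `d₀` inside the core
    obtain ⟨n, hn', hne⟩ : ∃ n ∈ Nn, n * d₀ * n⁻¹ = h * d₀ * h⁻¹ := by
      set d₂ := h * d₀ * h⁻¹ with hd₂
      set t := d₀ * d₂ with ht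
      have htN : t ∈ Nn := by
        have := hcomm h
        rw [ht, hd₂]
        rwa [hinv, mul_assoc d₀ h, mul_assoc] at this
      obtain ⟨j, hj⟩ : Odd (orderOf t) :=
        Odd.of_dvd_nat hNodd (Subgroup.orderOf_dvd_natCard Nn htN)
      refine ⟨t ^ j, pow_mem htN j, ?_⟩
      have hd₂2 : d₂ * d₂ = 1 := by
        rw [hd₂, show h * d₀ * h⁻¹ * (h * d₀ * h⁻¹) = h * (d₀ * d₀) * h⁻¹ by group, hd₀2]; group
      have hti : d₀ * t * d₀⁻¹ = t⁻¹ := by
        rw [ht, _root_.mul_inv_rev, inv_eq_of_mul_eq_one_right hd₂2, hinv, ← mul_assoc d₀ d₀, hd₀2,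
          one_mul]
      have e3 : (t ^ j)⁻¹ = d₀ * t ^ j * d₀⁻¹ := by rw [← inv_pow, ← hti, conj_pow]
      have hjj : t ^ (2 * j + 1) = 1 := by rw [← hj, pow_orderOf_eq_one]
      have h2j : t ^ j * t ^ j = t⁻¹ := by
        refine eq_inv_of_mul_eq_one_left ?_
        rw [← pow_add, ← pow_succ]
        rwa [← two_mul]
      calc t ^ j * d₀ * (t ^ j)⁻¹ = t ^ j * (d₀ * d₀) * t ^ j * d₀⁻¹ := by rw [e3]; group
        _ = t⁻¹ * d₀⁻¹ := by rw [hd₀2, mul_one, h2j]
        _ = d₂ := by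
          rw [ht, _root_.mul_inv_rev d₀ d₂, inv_eq_of_mul_eq_one_right hd₂2, hinv, mul_assoc, hd₀2, mul_one]
    set x := n⁻¹ * h with hx
    have hxc : Commute x d₀ := by
      show x * d₀ = d₀ * x
      rw [hx]
      calc n⁻¹ * h * d₀ = n⁻¹ * (h * d₀ * h⁻¹) * h := by group
        _ = n⁻¹ * (n * d₀ * n⁻¹) * h := by rw [hne]
        _ = d₀ * (n⁻¹ * h) := by group
    refine hns x hxc ?_
    let π := QuotientGroup.mk' Nn
    have e : π x = π h := by
      rw [hx, map_mul, map_inv, show π n = 1 from (QuotientGroup.eq_one_iff n).mpr hn', inv_one,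
        one_mul]
    have h1 : orderOf (π h) = s := by
      refine (hs.eq_one_or_self_of_dvd _ (hho ▸ orderOf_map_dvd π h)).resolve_left fun h1 => ?_
      exact hhN ((QuotientGroup.eq_one_iff h).mp (orderOf_eq_one_iff.mp h1))
    rw [← h1, ← e]
    exact orderOf_map_dvd π x
  -- a Sylow subgroup of the core normalised by `d₀`
  have hconjfix : ∃ P : Sylow s Nn, ∀ y ∈ (P : Subgroup Nn), ∀ (hmem : d₀ * (y : M) * d₀⁻¹ ∈ Nn),
      (⟨_, hmem⟩ : Nn) ∈ (P : Subgroup Nn) := by
    let φ : Nn ≃* Nn := (MulAut.conjNormal d₀ : MulAut Nn)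
    let act : Sylow s Nn → Sylow s Nn := fun P => φ • P
    have hinvol : Function.Involutive act := by
      intro P
      show φ • φ • P = P
      rw [smul_smul, ← map_mul, hd₀2, map_one, one_smul]
    obtain ⟨P, hP⟩ : ∃ P, act P = P := by
      by_contra hno
      simp only [not_exists] at hno
      haveI := Fintype.ofFinite (Sylow s Nn)
      have hev : Even (Fintype.card (Sylow s Nn)) := by
        let e : Equiv.Perm (Sylow s Nn) := hinvol.toPerm act
        have he2 : e ^ 2 ^ 1 = 1 := Equiv.ext fun P => by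
          rw [pow_one, pow_two]; exact hinvol P
        by_contra hodd'
        obtain ⟨a, ha⟩ := e.exists_fixed_point_of_prime (p := 2)
          (fun h => hodd' (even_iff_two_dvd.mpr h)) he2
        exact hno a ha
      have hsy : Odd (Nat.card (Sylow s Nn)) :=
        Odd.of_dvd_nat hNodd
          ((default : Sylow s Nn).card_eq_index_normalizer ▸ Subgroup.index_dvd_card _)
      rw [Nat.card_eq_fintype_card] at hsy
      exact (Nat.not_even_iff_odd.mpr hsy) hev
    refine ⟨P, fun y hy hmem => ?_⟩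
    have h' : φ • y ∈ ((φ • P : Sylow s Nn) : Subgroup Nn) :=
      Subgroup.smul_mem_pointwise_smul y φ _ hy
    rw [show φ • P = P from hP] at h'
    convert! h' using 1
  obtain ⟨P, hP⟩ := hconjfix
  have hsP : s ∣ Nat.card (P : Subgroup Nn) := by
    rw [P.card_eq_multiplicity]
    refine dvd_pow_self s fun h0 => ?_
    rw [Nat.factorization_eq_zero_iff] at h0
    rcases h0 with h0 | h0 | h0
    · exact h0 hs
    · exact h0 (by rw [← hho]; exact Subgroup.orderOf_dvd_natCard Nn hhN)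
    · exact Nat.card_pos.ne' h0
  obtain ⟨y, hyo⟩ := exists_prime_orderOf_dvd_card' s hsP
  obtain ⟨k, hk⟩ := hconjK ((P : Subgroup Nn).map Nn.subtype) (P.2.map _)
  have hmem : d₀ * ((y : Nn) : M) * d₀⁻¹ ∈ Nn := hNn.conj_mem _ (y : Nn).2 d₀
  have hy1 := hk _ ⟨(y : Nn), y.2, rfl⟩
  have hy2 := hk _ ⟨_, hP _ y.2 hmem, rfl⟩
  set z' : M := k⁻¹ * ((y : Nn) : M) * k
  set u' : M := k⁻¹ * d₀ * k with hu'
  have hz'o : orderOf z' = s := by
    rw [show z' = MulAut.conj k⁻¹ ((y : Nn) : M) by simp [z'], MulEquiv.orderOf_eq,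
      Subgroup.orderOf_coe, Subgroup.orderOf_coe, hyo]
  refine no_involution hn hK h2 (u := (u' : GL ι F)) (z := (z' : GL ι F)) (fun e => hd₀1 ?_)
    ?_ (hSK _ hy1) (hnons _ (hsg z' hz'o).1 (hsg z' hz'o).2) ?_
  · have : u' = 1 := Subtype.ext e
    rw [show d₀ = k * u' * k⁻¹ by rw [hu']; group, this]; group
  · rw [← Subgroup.coe_mul, show u' * u' = k⁻¹ * (d₀ * d₀) * k by rw [hu']; group, hd₀2]
    simp
  · rw [← Subgroup.coe_mul, ← Subgroup.coe_inv, ← Subgroup.coe_mul]
    convert! hSK _ hy2 using 3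
    show u' * z' * u'⁻¹ = k⁻¹ * (d₀ * ((y : Nn) : M) * d₀⁻¹) * k
    rw [hu']
    simp only [z']
    group

end Cfsg.Agent.SU3Geo98.SingerT
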